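import Cfsg.Agent.Lib.ClassK.Extraspecial

set_option autoImplicit false

namespace Cfsg.Agent.Monster
open Subgroup

/-- a finite subgroup is generated over a smaller one by few elements -/
theorem exists_gen_over {Q : Type*} [Group Q] [Finite Q] (N : Subgroup Q) :
    ∀ H : Subgroup Q, N ≤ H → ∃ S : Finset Q, (S : Set Q) ⊆ H ∧ N ⊔ closure (S : Set Q) = H ∧
      2 ^ S.card * Nat.card N ≤ Nat.card H := by
  intro H hNH
  classical
  obtain ⟨M, ⟨hMH, S, hS, he, hc⟩, hmax⟩ := (Set.toFinite {M : Subgroup Q | M ≤ H ∧ ∃ S : Finset Q,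
      (S : Set Q) ⊆ M ∧ N ⊔ closure (S : Set Q) = M ∧ 2 ^ S.card * Nat.card N ≤ Nat.card M}).exists_maximal
    ⟨N, hNH, ∅, by simp, by simp, by simp⟩
  rcases eq_or_lt_of_le hMH with rfl | hlt
  · exact ⟨S, hS, he, hc⟩
  obtain ⟨r, hr, hrM⟩ := SetLike.exists_of_lt hlt
  exfalso
  have hle : M ≤ M ⊔ zpowers r := le_sup_left
  have hrM' : r ∈ M ⊔ zpowers r := (le_sup_right : zpowers r ≤ M ⊔ zpowers r) (mem_zpowers r)
  refine hrM (hmax (y := M ⊔ zpowers r) ⟨sup_le hMH (zpowers_le.mpr hr), insert r S, ?_, ?_, ?_⟩ hle hrM')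
  · rw [Finset.coe_insert]; exact Set.insert_subset hrM' (hS.trans hle)
  · rw [Finset.coe_insert, Set.insert_eq, Subgroup.closure_union, ← zpowers_eq_closure, sup_comm (zpowers r), ← sup_assoc, he]
  · have hlt' : M < M ⊔ zpowers r := lt_of_le_of_ne hle fun h => hrM (h ▸ hrM')
    obtain ⟨k, hk⟩ := card_dvd_of_le hle
    rcases k with _ | _ | k
    · exact absurd hk (by rw [mul_zero]; exact Nat.card_pos.ne')
    · exact absurd (eq_of_le_of_card_ge hle (by simp [hk])) hlt'.ne
    · rw [Finset.card_insert_of_notMem fun h => hrM (hS h), hk]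
      calc 2 ^ (S.card + 1) * Nat.card N = 2 * (2 ^ S.card * Nat.card N) := by ring
        _ ≤ 2 * Nat.card M := Nat.mul_le_mul_left _ hc
        _ ≤ Nat.card M * (k + 1 + 1) := by rw [mul_comm 2]; exact Nat.mul_le_mul_left _ (by omega)

/-- centralisers in an extraspecial 2-group are small -/
theorem card_mul_centralizer_le {Q : Type*} [Group Q] [Finite Q] (h : Cfsg.IsExtraspecial 2 Q) (A : Subgroup Q) :
    Nat.card A * Nat.card (centralizer (A : Set Q)) ≤ 2 * Nat.card Q := by
  classical
  obtain ⟨S, -, hS, hc⟩ := exists_gen_over (centralizer (A : Set Q)) ⊤ le_top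
  rw [card_top] at hc
  let f : A → (↥S → center Q) := fun a s =>
    ⟨(s : Q) * a * (s : Q)⁻¹ * (a : Q)⁻¹, ClassK.commutator_mem_center_of_special h.1 _ _⟩
  have hfib : ∀ a b : A, f a = f b → (a : Q)⁻¹ * b ∈ center Q := fun a b hab => by
    have hle : centralizer (A : Set Q) ⊔ closure (S : Set Q) ≤ centralizer ({(a : Q)⁻¹ * b} : Set Q) := by
      refine sup_le (fun c hc => ?_) ((closure_le _).2 fun s hs => ?_)
      · refine mem_centralizer_singleton_iff.2 ?_
        exact (mem_centralizer_iff.1 hc _ (mul_mem (inv_mem a.2) b.2)).symm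
      · refine mem_centralizer_singleton_iff.2 ?_
        have e := Subtype.ext_iff.1 (congrFun hab ⟨s, hs⟩)
        simp only [f] at e
        have hca := ClassK.commutator_mem_center_of_special h.1 s (a : Q)
        set c := s * (a : Q) * s⁻¹ * (a : Q)⁻¹ with hc'
        have ea : s * (a : Q) * s⁻¹ = c * a := by rw [hc']; group
        have eb : s * (b : Q) * s⁻¹ = c * b := by rw [e]; group
        have hcc := mem_center_iff.1 hca
        have : s * ((a : Q)⁻¹ * b) * s⁻¹ = (a : Q)⁻¹ * b := by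
          rw [show s * ((a : Q)⁻¹ * b) * s⁻¹ = (s * (a : Q) * s⁻¹)⁻¹ * (s * b * s⁻¹) by group, ea, eb]
          group
        conv_rhs => rw [← this]
        group
    rw [hS] at hle
    exact mem_center_iff.2 fun y => (mem_centralizer_singleton_iff.1 (hle (mem_top y)))
  have hmax : Nat.card A ≤ 2 * 2 ^ S.card := by
    haveI := Fintype.ofFinite A
    haveI := Fintype.ofFinite (center Q)
    rw [Nat.card_eq_fintype_card, ← Finset.card_univ]
    refine (Finset.card_le_mul_card_image (f := f) Finset.univ 2 fun y _ => ?_).trans ?_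
    · rcases (Finset.univ.filter fun a => f a = y).eq_empty_or_nonempty with he | ⟨a, ha⟩
      · rw [he]; simp
      rw [← show Fintype.card (center Q) = 2 by rw [← Nat.card_eq_fintype_card]; exact h.2]
      refine Finset.card_le_card_of_injOn (fun b => if hb : (a : Q)⁻¹ * b ∈ center Q then ⟨_, hb⟩ else 1)
        (fun _ _ => Finset.mem_univ _) (fun b hb b' hb' e => ?_)
      rw [Finset.mem_filter] at ha
      rw [Finset.mem_coe, Finset.mem_filter] at hb hb'
      simp only [dif_pos (hfib a b (ha.2.trans hb.2.symm)), dif_pos (hfib a b' (ha.2.trans hb'.2.symm)),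
        Subtype.mk.injEq, mul_left_cancel_iff] at e
      exact Subtype.ext e
    · refine Nat.mul_le_mul_left _ ?_
      refine (Finset.card_le_univ _).trans ?_
      rw [Fintype.card_fun, Fintype.card_coe, ← Nat.card_eq_fintype_card, h.2]
  calc Nat.card A * Nat.card (centralizer (A : Set Q))
      ≤ 2 * 2 ^ S.card * Nat.card (centralizer (A : Set Q)) := Nat.mul_le_mul_right _ hmax
    _ = 2 * (2 ^ S.card * Nat.card (centralizer (A : Set Q))) := by ring
    _ ≤ 2 * Nat.card Q := Nat.mul_le_mul_left _ hc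

/-- the order of an image times the order of the kernel -/
theorem card_map_mul {A B : Type*} [Group A] [Group B] [Finite A] (f : A →* B) (H : Subgroup A) :
    Nat.card (H.map f) * Nat.card (H ⊓ f.ker : Subgroup A) = Nat.card H := by
  have e : Nat.card (H.map f) = (H ⊓ f.ker).relIndex H := by rw [inf_relIndex_left, relIndex_ker]
  have := relIndex_mul_relIndex ⊥ (H ⊓ f.ker) H bot_le inf_le_left
  rw [relIndex_bot_left, relIndex_bot_left] at this
  rw [e, mul_comm, this]

/-- two commuting-up-to-`N` deviations bound the image of `N` -/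
theorem card_image_le_of_rank {W : Type*} [CommGroup W] [Finite W] (f N : W →* W) (Y : Subgroup W) :
    Nat.card (Y.map f) ≤ Nat.card ((Y ⊓ N.ker).map f) * Nat.card (Y.map N) := by
  have h1 := card_map_mul f Y
  have h2 := card_map_mul N Y
  have h3 := card_map_mul f (Y ⊓ N.ker)
  have h4 : Nat.card (Y ⊓ N.ker ⊓ f.ker : Subgroup W) ≤ Nat.card (Y ⊓ f.ker : Subgroup W) :=
    Nat.le_of_dvd Nat.card_pos (card_dvd_of_le (le_inf (inf_le_left.trans inf_le_left) inf_le_right))
  refine Nat.le_of_mul_le_mul_right ?_ (Nat.card_pos : 0 < Nat.card (Y ⊓ f.ker : Subgroup W))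
  calc Nat.card (Y.map f) * Nat.card (Y ⊓ f.ker : Subgroup W)
      = Nat.card (Y.map N) * (Nat.card ((Y ⊓ N.ker).map f) * Nat.card (Y ⊓ N.ker ⊓ f.ker : Subgroup W)) := by
        rw [h1, h3, h2]
    _ ≤ Nat.card (Y.map N) * (Nat.card ((Y ⊓ N.ker).map f) * Nat.card (Y ⊓ f.ker : Subgroup W)) :=
        Nat.mul_le_mul_left _ (Nat.mul_le_mul_left _ h4)
    _ = _ := by ring

end Cfsg.Agent.Monster
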