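import Cfsg.Agent.Lib.Monster.Results
import Cfsg.Agent.Lib.Leech.FrameClasses
import Cfsg.Agent.Lib.Components.PTimesQ
import Cfsg.Agent.Lib.LocalEvenA.FrattiniP

set_option autoImplicit false

namespace Cfsg.Agent.Monster
open Cfsg Leech Subgroup

variable {G : Type*} [Group G] {z : G} {Q : Subgroup (Subgroup.centralizer ({z} : Set G))} [Q.Normal]
  {e : (Subgroup.centralizer ({z} : Set G)) ⧸ Q ≃* Spor.Co1} {ψ : leechLattice → Q ⧸ Subgroup.center Q}

/-- the standard short vector as a lattice element -/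
def uL : ↥leechLattice := ⟨Spor.vecU, vecU_mem⟩

theorem uL_eq : uL = Spor.leechU := rfl

/-- an element of the second Conway group inside the lattice automorphisms -/
def co2Incl : ↥Spor.Co2 →* ↥Co0 := Subgroup.inclusion inf_le_left

theorem co2Incl_injective : Function.Injective co2Incl := Subgroup.inclusion_injective _

theorem co2Incl_fix (g : ↥Spor.Co2) : co2Incl g • uL = uL :=
  MulAction.mem_stabilizer_iff.1 g.2.2

theorem exists_co2 {k : ↥Co0} (hk : k • uL = uL) : ∃ g : ↥Spor.Co2, co2Incl g = k :=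
  ⟨⟨(k : Equiv.Perm ↥leechLattice), k.2, MulAction.mem_stabilizer_iff.2 hk⟩, rfl⟩

theorem center_fix_u {k : ↥Co0} (hk : k ∈ Subgroup.center ↥Co0) (h : k • uL = uL) : k = 1 := by
  rcases center_eq.1 hk with e | e
  · exact e
  · exfalso
    have := congrArg (fun v : ↥leechLattice => (v : Vec)) h
    simp only [← ap_coe, e] at this
    rw [ap_negOne uL.2] at this
    have := congrFun this none
    revert this; decide

theorem co2_normal_two [Finite ↥Co0] (B : Subgroup ↥Spor.Co2) [hB : B.Normal] (hp : IsPGroup 2 B) : B = ⊥ := by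
  haveI : Fact (Nat.Prime 2) := ⟨Nat.prime_two⟩
  haveI : Finite ↥Spor.Co2 := Finite.of_injective _ co2Incl_injective
  by_contra hne
  haveI : Nontrivial B := (Subgroup.nontrivial_iff_ne_bot B).2 hne
  haveI := hp.center_nontrivial
  obtain ⟨w, hw1⟩ := exists_ne (1 : Subgroup.center B)
  have hzp : IsPGroup 2 (Subgroup.center B) := hp.to_subgroup _
  obtain ⟨w0, hw0⟩ : ∃ w0 : Subgroup.center B, orderOf w0 = 2 := by
    refine exists_prime_orderOf_dvd_card' 2 ?_
    obtain ⟨n, hn, hc⟩ := hzp.exists_card_eq.imp fun n hn => (⟨fun h => by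
      rw [h, pow_zero] at hn
      exact absurd (Finite.one_lt_card (α := Subgroup.center B)) (by omega), hn⟩ : n ≠ 0 ∧ _)
    rw [hc]; exact dvd_pow_self 2 hn
  let Ω : Subgroup ↥Spor.Co2 :=
    { carrier := {b | b ∈ B ∧ (∀ c ∈ B, c * b = b * c) ∧ b * b = 1}
      one_mem' := ⟨one_mem _, fun c _ => by simp, mul_one _⟩
      mul_mem' := fun {a b} ha hb => ⟨mul_mem ha.1 hb.1, fun c hc => by
        rw [← mul_assoc, ha.2.1 c hc, mul_assoc, hb.2.1 c hc, ← mul_assoc], by
        calc a * b * (a * b) = a * (b * a) * b := by group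
          _ = a * (a * b) * b := by rw [ha.2.1 b hb.1]
          _ = (a * a) * (b * b) := by group
          _ = 1 := by rw [ha.2.2, hb.2.2, one_mul]⟩
      inv_mem' := fun {a} ha => by
        rw [inv_eq_of_mul_eq_one_left ha.2.2]; exact ha }
  have hΩn : ∀ k, ∀ b ∈ Ω, k * b * k⁻¹ ∈ Ω := fun k b hb => ⟨hB.conj_mem b hb.1 k, fun c hc => by
    have := hb.2.1 _ (hB.conj_mem c hc k⁻¹)
    rw [inv_inv] at this
    calc c * (k * b * k⁻¹) = k * (k⁻¹ * c * k * b) * k⁻¹ := by group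
      _ = k * (b * (k⁻¹ * c * k)) * k⁻¹ := by rw [this]
      _ = _ := by group, by
    calc k * b * k⁻¹ * (k * b * k⁻¹) = k * (b * b) * k⁻¹ := by group
      _ = 1 := by rw [hb.2.2]; group⟩
  have hwΩ : ((w0 : B) : ↥Spor.Co2) ∈ Ω := by
    refine ⟨(w0 : B).2, fun c hc => congrArg Subtype.val (Subgroup.mem_center_iff.1 w0.2 ⟨c, hc⟩), ?_⟩
    have := pow_orderOf_eq_one w0
    rw [hw0, pow_two] at this
    exact congrArg (fun u : Subgroup.center B => ((u : B) : ↥Spor.Co2)) this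
  let A : Subgroup ↥Co0 := Ω.map co2Incl ⊔ Subgroup.center ↥Co0
  have hAmem : ∀ k ∈ A, ∃ b ∈ Ω, ∃ ζ ∈ Subgroup.center ↥Co0, k = co2Incl b * ζ := fun k hk => by
    obtain ⟨_, ⟨b, hb, rfl⟩, ζ, hζ, rfl⟩ := Subgroup.mem_sup_of_normal_right.1 hk
    exact ⟨b, hb, ζ, hζ, rfl⟩
  have hcc : ∀ {ζ : ↥Co0}, ζ ∈ Subgroup.center ↥Co0 → ζ * ζ = 1 := fun {ζ} h => by
    rcases center_eq.1 h with rfl | rfl
    · rw [mul_one]
    · refine ext_ap fun x hx => ?_
      rw [ap_mul _ _ hx, ap_one, ap_negOne hx, ap_negOne (neg_mem hx), neg_neg]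
  have hfixc : ∀ {ζ : ↥Co0}, ζ ∈ Subgroup.center ↥Co0 → FixU ζ := fun {ζ} h => by
    rcases center_eq.1 h with rfl | rfl
    · exact Or.inl (ap_one _)
    · exact Or.inr (ap_negOne vecU_mem)
  have hfixb : ∀ b : ↥Spor.Co2, FixU (co2Incl b) := fun b => Or.inl (by
    have := congrArg (fun v : ↥leechLattice => (v : Vec)) (co2Incl_fix b)
    simp only [← ap_coe] at this
    exact this)
  have hle := fixU_normal_le_center (A := A) (Set.toFinite _)
    (fun k hk => by obtain ⟨b, -, ζ, hζ, rfl⟩ := hAmem k hk; exact (hfixb b).mul (hfixc hζ))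
    (fun g hg k hk => by
      obtain ⟨b, hb, ζ, hζ, rfl⟩ := hAmem k hk
      obtain ⟨ε, hε, g', rfl⟩ : ∃ ε ∈ Subgroup.center ↥Co0, ∃ g' : ↥Spor.Co2, g = co2Incl g' * ε := by
        rcases hg with h | h
        · obtain ⟨g', hg'⟩ := exists_co2 (k := g) (Subtype.ext (by rw [← ap_coe]; exact h))
          exact ⟨1, one_mem _, g', by rw [hg', mul_one]⟩
        · obtain ⟨g', hg'⟩ := exists_co2 (k := g * negOne) (Subtype.ext (by
            rw [← ap_coe]
            show ap (g * negOne) Spor.vecU = Spor.vecU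
            rw [ap_mul _ _ vecU_mem, ap_negOne vecU_mem, ap_neg g vecU_mem, h, neg_neg]))
          exact ⟨negOne, negOne_mem_center, g', by rw [hg', mul_assoc, hcc negOne_mem_center, mul_one]⟩
      have : co2Incl g' * ε * (co2Incl b * ζ) * (co2Incl g' * ε)⁻¹ = co2Incl (g' * b * g'⁻¹) * ζ := by
        have h1 := Subgroup.mem_center_iff.1 hε
        have h2 := Subgroup.mem_center_iff.1 hζ
        calc _ = co2Incl g' * (ε * (co2Incl b * ζ)) * ε⁻¹ * (co2Incl g')⁻¹ := by group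
          _ = co2Incl g' * ((co2Incl b * ζ) * ε) * ε⁻¹ * (co2Incl g')⁻¹ := by rw [h1 (co2Incl b * ζ)]
          _ = co2Incl g' * co2Incl b * (ζ * (co2Incl g')⁻¹) := by group
          _ = co2Incl g' * co2Incl b * ((co2Incl g')⁻¹ * ζ) := by rw [h2 (co2Incl g')⁻¹]
          _ = _ := by rw [map_mul, map_mul, map_inv]; group
      rw [this]
      exact Subgroup.mul_mem_sup (Subgroup.mem_map_of_mem _ (hΩn g' b hb)) hζ)
    (fun k hk => by
      obtain ⟨b, hb, ζ, hζ, rfl⟩ := hAmem k hk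
      have h1 := Subgroup.mem_center_iff.1 hζ
      rw [show co2Incl b * ζ * (co2Incl b * ζ) = co2Incl b * (ζ * co2Incl b) * ζ by group, ← h1,
        show co2Incl b * (co2Incl b * ζ) * ζ = co2Incl b * co2Incl b * (ζ * ζ) by group, ← map_mul, hb.2.2, map_one, hcc hζ]
      exact one_mem _)
    (fun k hk l hl => by
      obtain ⟨b, hb, ζ, hζ, rfl⟩ := hAmem k hk
      obtain ⟨b', hb', ζ', hζ', rfl⟩ := hAmem l hl
      have h1 : Commute (co2Incl b) (co2Incl b') := by
        show _ * _ = _ * _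
        rw [← map_mul, ← map_mul, hb'.2.1 b hb.1]
      have hc : ∀ {x : ↥Co0} (y : ↥Co0), x ∈ Subgroup.center ↥Co0 → Commute x y := fun y hx => (Subgroup.mem_center_iff.1 hx y).symm
      have := (h1.mul_right (hc _ hζ').symm).mul_left (hc (co2Incl b' * ζ') hζ)
      rw [this.eq]
      convert one_mem (Subgroup.center ↥Co0) using 1
      group)
  have hw0c : co2Incl ((w0 : B) : ↥Spor.Co2) ∈ Subgroup.center ↥Co0 := hle (Subgroup.mem_sup_left (Subgroup.mem_map_of_mem _ hwΩ))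
  have := co2Incl_injective ((center_fix_u hw0c (co2Incl_fix _)).trans (map_one _).symm)
  have h1 : w0 = 1 := Subtype.ext (Subtype.ext this)
  rw [h1, orderOf_one] at hw0
  omega

namespace Data

variable (D : Data Q e ψ)
include D

/-- change of coordinates by a lattice automorphism -/
theorem twist (k : ↥Co0) : Data Q (e.trans (MulAut.conj (QuotientGroup.mk k : Spor.Co1)⁻¹)) (fun v => ψ (k • v)) := by
  refine ⟨D.core, fun v w => ?_, fun q => ?_, fun v => ?_, fun h g hg v q hq => ?_⟩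
  · show ψ (k • (v + w)) = ψ (k • v) * ψ (k • w)
    rw [co0_smul_add, D.mul]
  · obtain ⟨v, hv⟩ := D.iso.2.1 q
    exact ⟨k⁻¹ • v, by show ψ (k • k⁻¹ • v) = q; rw [smul_inv_smul, hv]⟩
  · rw [show (fun v => ψ (k • v)) v = ψ (k • v) from rfl, D.iso.2.2.1]
    constructor
    · rintro ⟨w, hw⟩
      refine ⟨k⁻¹ • w, ?_⟩
      rw [← co0_smul_add, ← hw, inv_smul_smul]
    · rintro ⟨w, rfl⟩
      exact ⟨k • w, co0_smul_add _ _ _⟩
  · show ψ (k • g • v) = _
    rw [show k • g • v = (k * g * k⁻¹) • (k • v) by rw [← mul_smul, ← mul_smul, inv_mul_cancel_right]]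
    refine D.act ?_ hq
    rw [QuotientGroup.mk_mul, QuotientGroup.mk_mul, QuotientGroup.mk_inv, hg]
    show (QuotientGroup.mk k : Spor.Co1) * ((QuotientGroup.mk k : Spor.Co1)⁻¹ * e (QuotientGroup.mk h) * (QuotientGroup.mk k : Spor.Co1)⁻¹⁻¹) * _ = _
    group

/-- intersections with conjugates consist of the singular frame classes -/
theorem inter_class [Finite G] {a : Q} {g : G} (ha : ψ e8L = QuotientGroup.mk a)
    (hg : g * z * g⁻¹ = ((a : Subgroup.centralizer ({z} : Set G)) : G)) (hnc : a ∉ Subgroup.center Q)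
    {v : ↥leechLattice} (hv : (v : Vec) ∈ fourSub) {b : Q} (hb : ψ v = QuotientGroup.mk b) :
    ((b : Subgroup.centralizer ({z} : Set G)) : G) ∈ RG Q g := by
  obtain ⟨-, -, hcard, himg⟩ := D.main (v := e8L) (Or.inr rfl) ha hg hnc
  let S : Subgroup Q :=
    { carrier := {q | ∃ w : ↥leechLattice, (w : Vec) ∈ fourSub ∧ ψ w = QuotientGroup.mk q}
      one_mem' := ⟨0, zero_mem _, D.zero⟩
      mul_mem' := fun {p q} ⟨w, hw, hwp⟩ ⟨w', hw', hwq⟩ =>
        ⟨w + w', add_mem hw hw', by rw [D.mul, hwp, hwq]; rfl⟩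
      inv_mem' := fun {p} ⟨w, hw, hwp⟩ => ⟨w, hw, by
        rw [hwp, QuotientGroup.mk_inv, eq_inv_iff_mul_eq_one, ← hwp, D.self_mul]⟩ }
  let f : Q →* G := (Subgroup.centralizer ({z} : Set G)).subtype.comp Q.subtype
  have hf : Function.Injective f := Subtype.val_injective.comp Subtype.val_injective
  have hsq : ∀ q ∈ S, q * q = 1 := fun q ⟨w, hw, hq⟩ => (D.sq_one_iff hq).2 (fourSub_norm hw)
  have hS13 : Nat.card (S.map f) ≤ 2 ^ 13 := D.abelian_card_le (by rintro _ ⟨q, -, rfl⟩; exact coe_mem_QG q) (by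
    rintro _ ⟨p, hp, rfl⟩ _ ⟨q, hq, rfl⟩
    rw [← map_mul, ← map_mul]
    congr 1
    have ha := inv_eq_of_mul_eq_one_left (hsq p hp)
    have hb := inv_eq_of_mul_eq_one_left (hsq q hq)
    have hab := inv_eq_of_mul_eq_one_left (hsq _ (mul_mem hp hq))
    rw [mul_inv_rev, ha, hb] at hab
    exact hab.symm)
  have hle : QG Q ⊓ RG Q g ≤ S.map f := fun x hx => by
    obtain ⟨q, rfl⟩ := exists_of_mem_QG hx.1
    refine ⟨q, ?_, rfl⟩
    obtain ⟨w, hw⟩ := D.exists_rep q
    refine ⟨w, ?_, hw⟩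
    have hsign : ∀ (c : Finset GolayPt) (hc : Cfsg.Agent.Leech.InC c), Cong (ap (signCo c hc) (w : Vec)) (w : Vec) ∨
        Cong (ap (signCo c hc) (w : Vec)) ((w : Vec) + e8 none) := fun c hc => by
      have hm : (QuotientGroup.mk (signCo c hc) : Spor.Co1) ∈ imgCo e (RG Q g ⊓ Subgroup.centralizer ({z} : Set G)) := by
        rw [himg]; exact ⟨_, signCo_mem_signs hc, rfl⟩
      obtain ⟨d, hd, he⟩ := hm
      have hact := D.act he.symm hw
      rcases D.com_RG hd.1 hx.2 with h | h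
      · left
        rw [show conjQ Q d q = q from Subtype.ext (Subtype.ext (mul_inv_eq_one.1 h)), ← hw, D.eq_iff, ← ap_coe] at hact
        exact hact
      · right
        have : conjQ Q d q = a * q := Subtype.ext (Subtype.ext (by
          rw [hg] at h
          exact mul_inv_eq_iff_eq_mul.1 h))
        rw [this, QuotientGroup.mk_mul, ← ha, ← hw, ← D.mul, D.eq_iff, ← ap_coe] at hact
        rw [add_comm]
        exact hact
    exact fourSub_of_signs w.2 hsign
  have heq : QG Q ⊓ RG Q g = S.map f := Subgroup.eq_of_le_of_card_ge hle (by rw [hcard]; exact hS13)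
  have : f b ∈ QG Q ⊓ RG Q g := heq ▸ ⟨b, ⟨v, hv, hb⟩, rfl⟩
  exact this.2

end Data

end Cfsg.Agent.Monster
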