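import Cfsg.Agent.Lib.Monster.Baby

set_option autoImplicit false

namespace Cfsg.Agent.Monster
open Cfsg Leech Subgroup
open scoped commutatorElement

variable {G : Type*} [Group G] {z t : G} {Q : Subgroup (Subgroup.centralizer ({z} : Set G))} [Q.Normal]
  {e : (Subgroup.centralizer ({z} : Set G)) ⧸ Q ≃* Spor.Co1} {ψ : leechLattice → Q ⧸ Subgroup.center Q}

namespace Data

variable (D : Data Q e ψ)
include D

set_option maxHeartbeats 3000000 in
/-- the centraliser of a short involution modulo that involution -/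
theorem baby [Finite G] [hn : ((Subgroup.zpowers t).subgroupOf (Subgroup.centralizer ({t} : Set G))).Normal]
    {a : Q} (hat : ((a : Subgroup.centralizer ({z} : Set G)) : G) = t) (hau : ψ uL = QuotientGroup.mk a)
    (ht2 : orderOf t = 2) (hnt : ¬ IsConj z t) :
    IsOfBabyMonsterType (↥(Subgroup.centralizer ({t} : Set G)) ⧸ (Subgroup.zpowers t).subgroupOf (Subgroup.centralizer ({t} : Set G))) := by
  classical
  haveI : Fact (Nat.Prime 2) := ⟨Nat.prime_two⟩
  haveI := finite_Co0 (Q := Q) e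
  have htQ : t ∈ QG Q := hat ▸ coe_mem_QG a
  have htz : t * z = z * t := mem_C_iff.1 (QG_le htQ)
  have ht1 : t ≠ 1 := fun h => by rw [h, orderOf_one] at ht2; omega
  have hntz : t ≠ z := fun h => hnt (by rw [h])
  have hzT : z ∈ Subgroup.centralizer ({t} : Set G) := Subgroup.mem_centralizer_singleton_iff.2 htz.symm
  set N := (Subgroup.zpowers t).subgroupOf (Subgroup.centralizer ({t} : Set G)) with hN
  have hpow : ∀ {x : G}, x ∈ Subgroup.zpowers t ↔ x = 1 ∨ x = t := fun {x} => by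
    refine ⟨fun hx => ?_, ?_⟩
    · obtain ⟨n, rfl⟩ := Subgroup.mem_zpowers_iff.1 hx
      have h2 : t ^ (2 : ℤ) = 1 := by
        have := pow_orderOf_eq_one t
        rw [ht2] at this; exact_mod_cast this
      rcases Int.even_or_odd n with ⟨m, rfl⟩ | ⟨m, rfl⟩
      · left; rw [← two_mul, zpow_mul, h2, one_zpow]
      · right; rw [zpow_add, zpow_mul, h2, one_zpow, one_mul, zpow_one]
    · rintro (rfl | rfl)
      exacts [one_mem _, Subgroup.mem_zpowers _]
  set zT : ↥(Subgroup.centralizer ({t} : Set G)) ⧸ N := QuotientGroup.mk ⟨z, hzT⟩ with hzTdef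
  -- `z t` is conjugate to `t`
  have hanc : a ∉ Subgroup.center Q := D.noncentral_of_ne (hat ▸ ht1) (hat ▸ hntz)
  obtain ⟨r₀, hr₀⟩ := D.exists_noncomm hanc
  have hzt : ¬ IsConj z (t * z) := fun hc => by
    have e' := congrArg (fun q : Q => ((q : Subgroup.centralizer ({z} : Set G)) : G)) hr₀
    have e'' : ((r₀ : Subgroup.centralizer ({z} : Set G)) : G) * t * ((r₀ : Subgroup.centralizer ({z} : Set G)) : G)⁻¹ = t * z := by
      rw [← hat]; exact e'
    exact hnt (hc.trans (isConj_iff.2 ⟨_, e''⟩).symm)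
  set K := Subgroup.centralizer ({z} : Set G) ⊓ Subgroup.centralizer ({t} : Set G) with hK
  -- the natural map onto the centraliser of the image of `z`
  have hπmem : ∀ c : ↥K, (QuotientGroup.mk (⟨(c : G), c.2.2⟩ : ↥(Subgroup.centralizer ({t} : Set G))) : _ ⧸ N) ∈
      Subgroup.centralizer ({zT} : Set (↥(Subgroup.centralizer ({t} : Set G)) ⧸ N)) := fun c => by
    refine Subgroup.mem_centralizer_singleton_iff.2 ?_
    rw [hzTdef, ← QuotientGroup.mk_mul, ← QuotientGroup.mk_mul]
    congr 1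
    exact Subtype.ext (mem_C_iff.1 c.2.1)
  let π : ↥K →* ↥(Subgroup.centralizer ({zT} : Set (↥(Subgroup.centralizer ({t} : Set G)) ⧸ N))) :=
    MonoidHom.mk' (fun c => ⟨_, hπmem c⟩) fun _ _ => rfl
  have hπs : Function.Surjective π := by
    rintro ⟨y, hy⟩
    obtain ⟨⟨c, hc⟩, rfl⟩ := QuotientGroup.mk_surjective y
    have h := Subgroup.mem_centralizer_singleton_iff.1 hy
    rw [hzTdef, ← QuotientGroup.mk_mul, ← QuotientGroup.mk_mul, QuotientGroup.eq] at h
    have hcC : c ∈ Subgroup.centralizer ({z} : Set G) := by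
      rcases hpow.1 h with h' | h'
      · refine mem_C_iff.2 ?_
        exact (inv_mul_eq_one.1 h')
      · exfalso
        have h'' : z * c = c * z * t := by
          have h3 : (c * z)⁻¹ * (z * c) = t := h'
          rw [← h3, mul_inv_cancel_left]
        refine hzt (isConj_iff.2 ⟨c⁻¹, ?_⟩)
        calc c⁻¹ * z * c⁻¹⁻¹ = c⁻¹ * (z * c) := by group
          _ = z * t := by rw [h'']; group
          _ = t * z := htz.symm
    exact ⟨⟨c, hcC, hc⟩, rfl⟩
  have hπker : ∀ c : ↥K, π c = 1 ↔ (c : G) = 1 ∨ (c : G) = t := fun c => by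
    rw [← hpow, Subtype.ext_iff]
    exact QuotientGroup.eq_one_iff _
  -- the map onto the stabiliser of the short vector
  let toC : ↥K →* Subgroup.centralizer ({z} : Set G) := Subgroup.inclusion inf_le_left
  have hfixa : ∀ c : ↥K, conjQ Q (toC c) a = a := fun c => Subtype.ext (Subtype.ext (by
    rw [coe_conjQ', hat]
    show (c : G) * t * (c : G)⁻¹ = t
    rw [Subgroup.mem_centralizer_singleton_iff.1 c.2.2, mul_inv_cancel_right]))
  have hex : ∀ c : ↥K, ∃ g : ↥Spor.Co2, (QuotientGroup.mk (co2Incl g) : Spor.Co1) = e (QuotientGroup.mk (toC c)) := fun c => by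
    obtain ⟨g, hg⟩ := exists_g (e := e) (toC c)
    have hc := D.fix_of_commutes hau (hfixa c) hg
    rcases cong_short (ap_mem g vecU_mem) vecU_mem hc (by rw [ap_norm g vecU_mem, vecU_norm]; norm_num)
      (by rw [vecU_norm]; norm_num) with h' | h' | h'
    · obtain ⟨g', hg'⟩ := exists_co2 (k := g) (Subtype.ext (by rw [← ap_coe]; exact h'))
      exact ⟨g', by rw [hg', hg]⟩
    · obtain ⟨g', hg'⟩ := exists_co2 (k := g * negOne) (Subtype.ext (by
        rw [← ap_coe]
        show ap (g * negOne) Spor.vecU = Spor.vecU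
        rw [ap_mul _ _ vecU_mem, ap_negOne vecU_mem, ap_neg g vecU_mem, h', neg_neg]))
      refine ⟨g', ?_⟩
      rw [hg', QuotientGroup.mk_mul, (QuotientGroup.eq_one_iff _).2 negOne_mem_center, mul_one, hg]
    · rw [vecU_norm] at h'; omega
  have huniq : ∀ g g' : ↥Spor.Co2, (QuotientGroup.mk (co2Incl g) : Spor.Co1) = QuotientGroup.mk (co2Incl g') → g = g' := fun g g' h => by
    rw [QuotientGroup.eq, ← map_inv, ← map_mul] at h
    have := co2Incl_injective ((center_fix_u h (co2Incl_fix _)).trans (map_one _).symm)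
    exact inv_mul_eq_one.1 this
  choose θf hθ using hex
  let θ : ↥K →* ↥Spor.Co2 := MonoidHom.mk' θf fun c d => huniq _ _ (by
    rw [map_mul, QuotientGroup.mk_mul, hθ, hθ, hθ, map_mul, QuotientGroup.mk_mul, map_mul])
  have hθ' : ∀ c, (QuotientGroup.mk (co2Incl (θ c)) : Spor.Co1) = e (QuotientGroup.mk (toC c)) := hθ
  have hθone : ∀ c, θ c = 1 ↔ (c : G) ∈ QG Q := fun c => by
    constructor
    · intro h
      have := hθ' c
      rw [h, map_one, QuotientGroup.mk_one] at this
      exact mem_QG.2 ⟨c.2.1, (QuotientGroup.eq_one_iff _).1 (e.map_eq_one_iff.1 this.symm)⟩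
    · intro h
      refine huniq _ _ ?_
      rw [hθ', map_one, QuotientGroup.mk_one, e.map_eq_one_iff]
      exact (QuotientGroup.eq_one_iff _).2 (mem_QG.1 h).2
  have hθs : Function.Surjective θ := fun g => by
    have hfix : Cong (ap (co2Incl g) ((uL : ↥leechLattice) : Vec)) ((uL : ↥leechLattice) : Vec) := by
      rw [ap_coe, co2Incl_fix]; exact Cong.refl _
    obtain ⟨h, hh, hca⟩ := D.commutes_of_fix hau hanc hfix
    have hhK : (h : G) ∈ K := ⟨h.2, Subgroup.mem_centralizer_singleton_iff.2 (by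
      have := congrArg (fun q : Q => ((q : Subgroup.centralizer ({z} : Set G)) : G)) hca
      simp only [coe_conjQ', hat] at this
      exact mul_inv_eq_iff_eq_mul.1 this)⟩
    refine ⟨⟨h, hhK⟩, huniq _ _ ?_⟩
    rw [hθ', hh]; rfl
  have hkerle : π.ker ≤ θ.ker := fun c hc => by
    rw [MonoidHom.mem_ker] at hc ⊢
    rw [hθone]
    rcases (hπker c).1 hc with h | h <;> rw [h]
    exacts [one_mem _, htQ]
  let φ : ↥(Subgroup.centralizer ({zT} : Set (↥(Subgroup.centralizer ({t} : Set G)) ⧸ N))) →* ↥Spor.Co2 :=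
    MonoidHom.liftOfSurjective π hπs ⟨θ, hkerle⟩
  have hφ : ∀ c, φ (π c) = θ c := fun c => MonoidHom.liftOfRightInverse_comp_apply _ _ _ _ c
  have hφs : Function.Surjective φ := fun g => by
    obtain ⟨c, hc⟩ := hθs g
    exact ⟨π c, by rw [hφ, hc]⟩
  set R := φ.ker with hR
  have hmemR : ∀ c, π c ∈ R ↔ (c : G) ∈ QG Q := fun c => by rw [hR, MonoidHom.mem_ker, hφ, hθone]
  have hQK : ∀ q : Q, q * a = a * q → ((q : Subgroup.centralizer ({z} : Set G)) : G) ∈ K := fun q hq =>
    ⟨(q : Subgroup.centralizer ({z} : Set G)).2, Subgroup.mem_centralizer_singleton_iff.2 (by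
      rw [← hat]
      exact congrArg (fun u : Q => ((u : Subgroup.centralizer ({z} : Set G)) : G)) hq)⟩
  -- elements of `R`
  let ρ : ↥(Subgroup.centralizer ({a} : Set Q)) →* ↥(Subgroup.centralizer ({zT} : Set (↥(Subgroup.centralizer ({t} : Set G)) ⧸ N))) :=
    MonoidHom.mk' (fun q => π ⟨_, hQK q (Subgroup.mem_centralizer_singleton_iff.1 q.2)⟩) fun p q => by
      rw [← map_mul]; rfl
  have hρR : ρ.range = R := by
    apply le_antisymm
    · rintro _ ⟨q, rfl⟩
      exact (hmemR _).2 (coe_mem_QG (q : Q))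
    · intro y hy
      obtain ⟨c, rfl⟩ := hπs y
      obtain ⟨q, hq⟩ := exists_of_mem_QG ((hmemR c).1 hy)
      refine ⟨⟨q, Subgroup.mem_centralizer_singleton_iff.2 (Subtype.ext (Subtype.ext ?_))⟩, ?_⟩
      · simp only [Subgroup.coe_mul]
        rw [hq, hat]
        exact Subgroup.mem_centralizer_singleton_iff.1 c.2.2
      · exact congrArg π (Subtype.ext hq)
  have hρker : ∀ q, ρ q = 1 ↔ ((q : Q) = 1 ∨ (q : Q) = a) := fun q => by
    show π _ = 1 ↔ _
    rw [hπker]
    constructor <;> rintro (h | h)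
    · exact Or.inl (Subtype.ext (Subtype.ext h))
    · exact Or.inr (Subtype.ext (Subtype.ext (h.trans hat.symm)))
    · exact Or.inl (congrArg (fun u : Q => ((u : Subgroup.centralizer ({z} : Set G)) : G)) h)
    · exact Or.inr ((congrArg (fun u : Q => ((u : Subgroup.centralizer ({z} : Set G)) : G)) h).trans hat)
  have haP : a ∈ Subgroup.centralizer ({a} : Set Q) := Subgroup.mem_centralizer_singleton_iff.2 rfl
  have hRcard : Nat.card R = 2 ^ 23 := by
    rw [← hρR]
    have h := card_map_mul ρ ⊤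
    rw [← MonoidHom.range_eq_map, top_inf_eq, Subgroup.card_top, D.card_centralizer_single hanc] at h
    have hk : (ρ.ker : Set ↥(Subgroup.centralizer ({a} : Set Q))) = {1, ⟨a, haP⟩} := by
      ext q
      simp only [SetLike.mem_coe, MonoidHom.mem_ker, hρker, Set.mem_insert_iff, Set.mem_singleton_iff, Subtype.ext_iff]
      rfl
    have hk2 : Nat.card ρ.ker = 2 := by
      rw [show Nat.card ρ.ker = Nat.card (ρ.ker : Set ↥(Subgroup.centralizer ({a} : Set Q))) from rfl, hk,
        Nat.card_coe_set_eq, Set.ncard_pair]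
      intro h1
      have : (1 : Q) = a := congrArg Subtype.val h1
      exact hanc (this ▸ one_mem _)
    rw [hk2] at h
    norm_num at h ⊢; omega
  let zK : ↥K := ⟨z, zC_mem, hzT⟩
  have hzR : π zK ∈ R := (hmemR zK).2 D.z_memQG
  have hzne : π zK ≠ 1 := fun h => by
    rcases (hπker zK).1 h with h' | h'
    exacts [D.z_ne h', hntz h'.symm]
  have hρz : ∀ q : Q, ∀ hq : q ∈ Subgroup.centralizer ({a} : Set Q), q ∈ Subgroup.center Q →
      ρ ⟨q, hq⟩ = 1 ∨ ρ ⟨q, hq⟩ = π zK := fun q hq hc => by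
    rcases D.center_val hc with h | h
    · left; exact (hρker _).2 (Or.inl (Subtype.ext (Subtype.ext h)))
    · right; exact congrArg π (Subtype.ext h)
  have hcommR : ∀ p q : ↥R, ((p * q * p⁻¹ * q⁻¹ : ↥R) : _) = (1 : ↥(Subgroup.centralizer ({zT} : Set (↥(Subgroup.centralizer ({t} : Set G)) ⧸ N)))) ∨
      ((p * q * p⁻¹ * q⁻¹ : ↥R) : _) = π zK := by
    rintro ⟨p, hp⟩ ⟨q, hq⟩
    rw [← hρR] at hp hq
    obtain ⟨p', rfl⟩ := hp
    obtain ⟨q', rfl⟩ := hq
    show ρ p' * ρ q' * (ρ p')⁻¹ * (ρ q')⁻¹ = 1 ∨ ρ p' * ρ q' * (ρ p')⁻¹ * (ρ q')⁻¹ = π zK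
    rw [← map_inv, ← map_inv, ← map_mul, ← map_mul, ← map_mul]
    exact hρz _ _ (D.com_mem_center (p' : Q) (q' : Q))
  have hsqR : ∀ p : ↥R, ((p * p : ↥R) : _) = (1 : ↥(Subgroup.centralizer ({zT} : Set (↥(Subgroup.centralizer ({t} : Set G)) ⧸ N)))) ∨
      ((p * p : ↥R) : _) = π zK := by
    rintro ⟨p, hp⟩
    rw [← hρR] at hp
    obtain ⟨p', rfl⟩ := hp
    show ρ p' * ρ p' = 1 ∨ ρ p' * ρ p' = π zK
    rw [← map_mul]
    exact hρz _ _ (D.sq_mem_center (p' : Q))
  -- elements centralising `R` lie in few classes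
  have hcentR : ∀ p : ↥(Subgroup.centralizer ({a} : Set Q)), (∀ q, ρ p * ρ q = ρ q * ρ p) →
      (p : Q) ∈ Subgroup.center Q ∨ a⁻¹ * (p : Q) ∈ Subgroup.center Q := fun p hp => by
    refine D.double_centralizer hanc (Subgroup.mem_centralizer_iff.2 fun q hq => ?_)
    have h := hp ⟨q, hq⟩
    rw [← map_mul, ← map_mul] at h
    have h1 : ρ ((⟨q, hq⟩ * p) * (p * ⟨q, hq⟩)⁻¹) = 1 := by rw [map_mul, map_inv, h, mul_inv_cancel]
    rcases (hρker _).1 h1 with h2 | h2 <;> simp only [Subgroup.coe_mul, Subgroup.coe_inv] at h2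
    · exact mul_inv_eq_one.1 h2
    · exfalso
      have hc := D.com_mem_center q (p : Q)
      rw [show q * (p : Q) * q⁻¹ * (p : Q)⁻¹ = q * p * ((p : Q) * q)⁻¹ by group, h2] at hc
      exact hanc hc
  have hcenter : ∀ y : ↥R, y ∈ Subgroup.center ↥R ↔ (y : _) = (1 : ↥(Subgroup.centralizer ({zT} : Set (↥(Subgroup.centralizer ({t} : Set G)) ⧸ N)))) ∨ (y : _) = π zK := by
    intro y
    constructor
    · intro hy
      obtain ⟨p, hp⟩ : y.1 ∈ ρ.range := (SetLike.ext_iff.1 hρR _).2 y.2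
      rcases hcentR p (fun q => by
        have := Subgroup.mem_center_iff.1 hy ⟨ρ q, (SetLike.ext_iff.1 hρR _).1 ⟨q, rfl⟩⟩
        have := congrArg Subtype.val this
        simp only [Subgroup.coe_mul, ← hp] at this
        exact this.symm) with h | h
      · rw [← hp]; exact hρz _ p.2 h
      · have e : p = ⟨a, haP⟩ * ⟨a⁻¹ * (p : Q), mul_mem (inv_mem haP) p.2⟩ := Subtype.ext (mul_inv_cancel_left _ _).symm
        rw [← hp, e, map_mul, (hρker ⟨a, haP⟩).2 (Or.inr rfl), one_mul]
        exact hρz _ _ h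
    · rintro (h | h)
      · rw [show y = 1 from Subtype.ext h]; exact one_mem _
      · refine Subgroup.mem_center_iff.2 fun q => Subtype.ext ?_
        simp only [Subgroup.coe_mul, h]
        obtain ⟨c, hc⟩ := hπs (q : _)
        rw [← hc, ← map_mul, ← map_mul]
        exact congrArg π (Subtype.ext (mem_C_iff.1 c.2.1))
  have hcen2 : Nat.card (Subgroup.center ↥R) = 2 := by
    have : ((Subgroup.center ↥R : Subgroup ↥R) : Set ↥R) = {1, ⟨π zK, hzR⟩} := by
      ext y
      simp only [SetLike.mem_coe, hcenter, Set.mem_insert_iff, Set.mem_singleton_iff, Subtype.ext_iff]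
      rfl
    rw [show Nat.card (Subgroup.center ↥R) = Nat.card ((Subgroup.center ↥R : Subgroup ↥R) : Set ↥R) from rfl, this,
      Nat.card_coe_set_eq, Set.ncard_pair]
    exact fun h => hzne (congrArg Subtype.val h).symm
  have hR2 : IsPGroup 2 ↥R := IsPGroup.of_card hRcard
  haveI : Group.IsNilpotent ↥R := hR2.isNilpotent
  have hcomle : commutator ↥R ≤ Subgroup.center ↥R := by
    rw [_root_.commutator_def, Subgroup.commutator_le]
    intro p _ q _
    rw [hcenter, commutatorElement_def]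
    exact hcommR p q
  have hcomne : commutator ↥R ≠ ⊥ := fun h => by
    have htop : Subgroup.center ↥R = ⊤ := eq_top_iff.2 fun p _ => Subgroup.mem_center_iff.2 fun q => by
      have : ⁅q, p⁆ ∈ commutator ↥R := Subgroup.commutator_mem_commutator (Subgroup.mem_top _) (Subgroup.mem_top _)
      rw [h, Subgroup.mem_bot, commutatorElement_eq_one_iff_mul_comm] at this
      exact this
    rw [htop, Subgroup.card_top, hRcard] at hcen2
    norm_num at hcen2
  have heq2 : ∀ {H : Subgroup ↥R}, H ≤ Subgroup.center ↥R → H ≠ ⊥ → H = Subgroup.center ↥R := fun {H} hle hne => by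
    refine Subgroup.eq_of_le_of_card_ge hle ?_
    rw [hcen2]
    exact (Subgroup.one_lt_card_iff_ne_bot H).2 hne
  have hcomeq := heq2 hcomle hcomne
  have hES : IsExtraspecial 2 ↥R := by
    refine ⟨⟨hR2, ?_, hcomeq⟩, hcen2⟩
    refine le_antisymm ((LocalEvenA.frattini_le_commutator_sup_pow (p := 2)).trans (sup_le hcomle ((Subgroup.closure_le _).2 ?_)))
      (hcomeq ▸ Basics.commutator_le_frattini)
    rintro _ ⟨p, rfl⟩
    simp only [SetLike.mem_coe, hcenter]
    rw [pow_two]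
    exact hsqR p
  have hpcore : pCore 2 ↥(Subgroup.centralizer ({zT} : Set (↥(Subgroup.centralizer ({t} : Set G)) ⧸ N))) = R := by
    refine le_antisymm (sSup_le fun M hM => ?_) (le_sSup ⟨MonoidHom.normal_ker φ, hR2⟩)
    haveI := hM.1
    haveI : (M.map φ).Normal := hM.1.map φ hφs
    intro y hy
    have h := Subgroup.mem_map_of_mem φ hy
    rw [co2_normal_two (M.map φ) (hM.2.map φ)] at h
    exact h
  have hFstar : generalizedFittingSubgroup ↥(Subgroup.centralizer ({zT} : Set (↥(Subgroup.centralizer ({t} : Set G)) ⧸ N))) = R := by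
    rw [← hpcore]
    refine (Components.fStar_eq_pCore_iff (p := 2)).2 ?_
    rw [hpcore]
    intro y hy
    obtain ⟨c, rfl⟩ := hπs y
    rw [hmemR, ← hθone]
    refine co2Incl_injective ((center_fix_u (central_of_fix ?_ fun k hk => ?_) (co2Incl_fix _)).trans (map_one _).symm)
    · left
      have := congrArg (fun v : ↥leechLattice => (v : Vec)) (co2Incl_fix (θ c))
      simp only [← ap_coe] at this
      exact this
    set xv : ↥leechLattice := ⟨ap k (e8 none), ap_mem k (e8_mem none)⟩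
    obtain ⟨p, hp⟩ := D.exists_elt xv
    have hdot : (16 : ℤ) ∣ dotInt (xv : Vec) ((uL : ↥leechLattice) : Vec) := by
      refine hk.dot (e8_mem none) ?_
      rw [dot_comm, dot_e8]
      decide
    have hpa := (D.comm_iff hp hau).2 hdot
    have hcp := Subgroup.mem_centralizer_iff.1 hy _ ((hmemR ⟨_, hQK p hpa⟩).2 (coe_mem_QG p))
    have h1 : π (c * ⟨_, hQK p hpa⟩ * c⁻¹ * (⟨_, hQK p hpa⟩ : ↥K)⁻¹) = 1 := by
      simp only [map_mul, map_inv]
      rw [← hcp]; group
    have hact := D.act (hθ' c) hp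
    rcases (hπker _).1 h1 with h2 | h2
    · rw [show conjQ Q (toC c) p = p from Subtype.ext (Subtype.ext (mul_inv_eq_one.1 h2)), ← hp, D.eq_iff, ← ap_coe] at hact
      obtain ⟨w, hw, he⟩ := hact
      exact Or.inl ⟨w, hw, by rw [sub_zero]; exact he⟩
    · rw [show conjQ Q (toC c) p = a * p from Subtype.ext (Subtype.ext (by
        rw [Subgroup.coe_mul, Subgroup.coe_mul, hat]
        exact mul_inv_eq_iff_eq_mul.1 h2)), QuotientGroup.mk_mul, ← hau, ← hp, ← D.mul, D.eq_iff, ← ap_coe] at hact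
      obtain ⟨w, hw, he⟩ := hact
      refine Or.inr ⟨w, hw, ?_⟩
      rw [← he, AddSubgroup.coe_add]
      show ap _ (ap k (e8 none)) - ap k (e8 none) - Spor.vecU = ap _ (ap k (e8 none)) - (Spor.vecU + ap k (e8 none))
      abel
  -- `z` is not weakly closed
  have hweak : ∃ y : ↥(Subgroup.centralizer ({t} : Set G)) ⧸ N, (∃ hq : y * zT * y⁻¹ ∈ Subgroup.centralizer ({zT} : Set _),
      (⟨y * zT * y⁻¹, hq⟩ : ↥(Subgroup.centralizer ({zT} : Set (↥(Subgroup.centralizer ({t} : Set G)) ⧸ N)))) ∈ R) ∧ y * zT * y⁻¹ ≠ zT := by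
    obtain ⟨b, hb⟩ := D.exists_elt e8L
    obtain ⟨hbc, hbne⟩ := (D.conj_iff b).2 ⟨e8L, e8_norm none, hb⟩
    obtain ⟨g, hg⟩ := isConj_iff.1 hbc
    have hbnc : b ∉ Subgroup.center Q := D.noncentral_of_conj hg hbne
    have hu4 : Spor.vecU ∈ fourSub := mem_fourSub.2 ⟨vecU_mem, by decide, by decide⟩
    have htR : t ∈ RG Q g := hat ▸ D.inter_class hb hg hbnc (v := uL) hu4 hau
    obtain ⟨t', ht'⟩ := exists_of_mem_QG (mem_RG.1 htR)
    have ht'2 : orderOf ((t' : Subgroup.centralizer ({z} : Set G)) : G) = 2 := by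
      have h := orderOf_injective (MulAut.conj g⁻¹).toMonoidHom (MulAut.conj g⁻¹).injective t
      rw [ht', ← ht2, ← h]
      simp
    have ht'n : ¬ IsConj z ((t' : Subgroup.centralizer ({z} : Set G)) : G) := fun hc => hnt (by
      rw [ht'] at hc
      exact hc.trans (isConj_iff.2 ⟨g, by group⟩))
    obtain ⟨h, hh⟩ := D.nonconj_transitive (a := a) (b := t') (hat ▸ ht2) ht'2 (hat ▸ hnt) ht'n
    have hh' := congrArg (fun q : Q => ((q : Subgroup.centralizer ({z} : Set G)) : G)) hh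
    simp only [coe_conjQ', hat, ht'] at hh'
    have hcT : g * (h : G) ∈ Subgroup.centralizer ({t} : Set G) := by
      refine Subgroup.mem_centralizer_singleton_iff.2 ?_
      calc g * (h : G) * t = g * ((h : G) * t * (h : G)⁻¹) * h := by group
        _ = _ := by rw [hh']; group
    have hhz : (h : G) * z * (h : G)⁻¹ = z := by rw [mem_C_iff.1 h.2]; group
    have hval : g * (h : G) * z * (g * (h : G))⁻¹ = ((b : Subgroup.centralizer ({z} : Set G)) : G) := by
      rw [← hg]
      calc _ = g * ((h : G) * z * (h : G)⁻¹) * g⁻¹ := by group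
        _ = _ := by rw [hhz]
    have hba : b * a = a * b := (D.comm_iff hb hau).2 (by
      show (16 : ℤ) ∣ dotInt (e8 none) Spor.vecU
      rw [dot_comm, dot_e8]; decide)
    have hy : (QuotientGroup.mk ⟨_, hcT⟩ : ↥(Subgroup.centralizer ({t} : Set G)) ⧸ N) * zT * (QuotientGroup.mk ⟨_, hcT⟩)⁻¹ =
        ((π ⟨_, hQK b hba⟩ : ↥(Subgroup.centralizer ({zT} : Set (↥(Subgroup.centralizer ({t} : Set G)) ⧸ N)))) : _ ⧸ N) := by
      show (QuotientGroup.mk ⟨_, hcT⟩ : ↥(Subgroup.centralizer ({t} : Set G)) ⧸ N) * QuotientGroup.mk ⟨z, hzT⟩ *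
        (QuotientGroup.mk ⟨_, hcT⟩)⁻¹ = QuotientGroup.mk _
      rw [← QuotientGroup.mk_inv, ← QuotientGroup.mk_mul, ← QuotientGroup.mk_mul]
      exact congrArg QuotientGroup.mk (Subtype.ext hval)
    refine ⟨QuotientGroup.mk ⟨_, hcT⟩, ⟨hy ▸ SetLike.coe_mem _, ?_⟩, fun heq => ?_⟩
    · rw [show (⟨_, _⟩ : ↥(Subgroup.centralizer ({zT} : Set (↥(Subgroup.centralizer ({t} : Set G)) ⧸ N)))) = π ⟨_, hQK b hba⟩ from Subtype.ext hy]
      exact (hmemR _).2 (coe_mem_QG b)
    · rw [hy] at heq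
      have h2 : ((⟨z, hzT⟩ : ↥(Subgroup.centralizer ({t} : Set G)))⁻¹ * ⟨_, (hQK b hba).2⟩) ∈ N :=
        QuotientGroup.eq.1 heq.symm
      rcases hpow.1 h2 with h' | h' <;>
        simp only [Subgroup.coe_subtype, Subgroup.coe_mul, Subgroup.coe_inv] at h'
      · exact hbne (inv_mul_eq_one.1 h').symm
      · refine hzt (hbc.trans ?_)
        rw [inv_mul_eq_iff_eq_mul.1 h', ← htz]
  have hzord : orderOf zT = 2 := by
    refine orderOf_eq_prime ?_ ?_
    · rw [pow_two, hzTdef, ← QuotientGroup.mk_mul, show (⟨z, hzT⟩ * ⟨z, hzT⟩ : ↥(Subgroup.centralizer ({t} : Set G))) = 1 from Subtype.ext D.z_sq]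
      rfl
    · intro h
      exact hzne (Subtype.ext h)
  -- the module identification
  let eB := QuotientGroup.quotientKerEquivOfSurjective φ hφs
  have hperp : ∀ x : ↥leechPerpU, ∀ q : Q, ψ (x : ↥leechLattice) = QuotientGroup.mk q → q * a = a * q :=
    fun x q hq => (D.comm_iff hq hau).2 x.2
  let lift : ↥leechPerpU → Q := fun x => (D.exists_elt (x : ↥leechLattice)).choose
  have hlift : ∀ x : ↥leechPerpU, ψ (x : ↥leechLattice) = QuotientGroup.mk (lift x) := fun x =>
    (D.exists_elt (x : ↥leechLattice)).choose_spec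
  let el : ∀ q : Q, q * a = a * q → ↥R := fun q hq => ⟨π ⟨_, hQK q hq⟩, (hmemR _).2 (coe_mem_QG q)⟩
  let ψB : ↥leechPerpU → ↥R ⧸ Subgroup.center ↥R := fun x => QuotientGroup.mk (el (lift x) (hperp x _ (hlift x)))
  have hψB : ∀ (x : ↥leechPerpU) (q : Q) (hq : ψ (x : ↥leechLattice) = QuotientGroup.mk q),
      ψB x = QuotientGroup.mk (el q (hperp x q hq)) := fun x q hq => by
    show QuotientGroup.mk _ = _
    rw [QuotientGroup.eq, hcenter]
    have hc : (lift x)⁻¹ * q ∈ Subgroup.center Q := QuotientGroup.eq.1 ((hlift x).symm.trans hq)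
    show (π _)⁻¹ * π _ = 1 ∨ (π _)⁻¹ * π _ = π zK
    rw [← map_inv, ← map_mul]
    exact hρz _ (mul_mem (inv_mem (Subgroup.mem_centralizer_singleton_iff.2 (hperp x _ (hlift x))))
      (Subgroup.mem_centralizer_singleton_iff.2 (hperp x q hq))) hc
  refine ⟨zT, R, inferInstance, ⟨hzord, hFstar, hES, hRcard, hweak⟩, eB, ψB, fun x y => ?_, fun y => ?_, fun x => ?_,
    fun h g heg x y hxy q hq => ?_⟩
  · have hxy : ψ ((x + y : ↥leechPerpU) : ↥leechLattice) = QuotientGroup.mk (lift x * lift y) := by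
      rw [AddSubgroup.coe_add, D.mul, hlift x, hlift y]; rfl
    rw [hψB _ _ hxy, hψB x _ (hlift x), hψB y _ (hlift y), ← QuotientGroup.mk_mul]
    congr 1
  · obtain ⟨r, rfl⟩ := QuotientGroup.mk_surjective y
    obtain ⟨p, hp⟩ : r.1 ∈ ρ.range := (SetLike.ext_iff.1 hρR _).2 r.2
    obtain ⟨v, hv⟩ := D.exists_rep (p : Q)
    refine ⟨⟨v, (D.comm_iff hv hau).1 (Subgroup.mem_centralizer_singleton_iff.1 p.2)⟩, ?_⟩
    rw [hψB ⟨v, (D.comm_iff hv hau).1 (Subgroup.mem_centralizer_singleton_iff.1 p.2)⟩ (p : Q) hv]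
    congr 1
    exact Subtype.ext hp
  · rw [hψB x _ (hlift x), QuotientGroup.eq_one_iff, hcenter]
    constructor
    · intro h
      have hP : lift x ∈ Subgroup.centralizer ({a} : Set Q) := Subgroup.mem_centralizer_singleton_iff.2 (hperp x _ (hlift x))
      rcases hcentR ⟨lift x, hP⟩ (fun q => by
          obtain ⟨c, hc⟩ := hπs (ρ q)
          rcases h with h | h <;> change π _ = _ at h <;> (show π _ * ρ q = ρ q * π _) <;> rw [h]
          · simp
          · rw [← hc, ← map_mul, ← map_mul]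
            exact congrArg π (Subtype.ext (mem_C_iff.1 c.2.1).symm)) with h' | h'
      · left
        exact (D.iso.2.2.1 _).1 (by rw [hlift x]; exact (QuotientGroup.eq_one_iff _).2 h')
      · right
        obtain ⟨w, hw⟩ := coe_cong.1 (D.eq_iff.1 ((hlift x).trans ((QuotientGroup.eq.2 h').symm.trans hau.symm)))
        exact ⟨w, by rw [← uL_eq, ← hw]; abel⟩
    · rintro (⟨w, hw⟩ | ⟨w, hw⟩)
      · refine hρz _ (Subgroup.mem_centralizer_singleton_iff.2 (hperp x _ (hlift x))) ?_
        have := (D.iso.2.2.1 (x : ↥leechLattice)).2 ⟨w, hw⟩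
        rw [hlift x] at this
        exact (QuotientGroup.eq_one_iff _).1 this
      · have hxa : ψ (x : ↥leechLattice) = QuotientGroup.mk a := by
          rw [hw, ← uL_eq, D.mul, D.mul, D.self_mul, mul_one, hau]
        have hc : (lift x)⁻¹ * a ∈ Subgroup.center Q := QuotientGroup.eq.1 ((hlift x).symm.trans hxa)
        have hP := Subgroup.mem_centralizer_singleton_iff.2 (hperp x _ (hlift x))
        show ρ ⟨lift x, hP⟩ = 1 ∨ ρ ⟨lift x, hP⟩ = π zK
        have e' : (⟨lift x, hP⟩ : ↥(Subgroup.centralizer ({a} : Set Q))) =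
            ⟨a, haP⟩ * (⟨(lift x)⁻¹ * a, mul_mem (inv_mem hP) haP⟩)⁻¹ := Subtype.ext (by simp)
        rw [e', map_mul, map_inv, (hρker ⟨a, haP⟩).2 (Or.inr rfl), one_mul]
        rcases hρz _ (mul_mem (inv_mem hP) haP) hc with h' | h' <;> rw [h']
        · exact Or.inl inv_one
        · right
          rw [← map_inv]
          exact congrArg π (Subtype.ext (inv_eq_of_mul_eq_one_left D.z_sq))
  · obtain ⟨c, rfl⟩ := hπs h
    have hg' : θ c = g := by
      rw [← hφ, ← heg]; rfl
    have hact := D.act (hθ' c) (hlift x)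
    have hy' : ψ (y : ↥leechLattice) = QuotientGroup.mk (conjQ Q (toC c) (lift x)) := by
      rw [← hact, hg']
      congr 1
      exact hxy.symm
    rw [hψB y _ hy']
    have hq' := QuotientGroup.eq.1 ((hψB x _ (hlift x)).symm.trans hq)
    rw [QuotientGroup.eq]
    have hconj : ∀ w : ↥R, w ∈ Subgroup.center ↥R →
        (π c * (w : _) * (π c)⁻¹ = (1 : ↥(Subgroup.centralizer ({zT} : Set (↥(Subgroup.centralizer ({t} : Set G)) ⧸ N)))) ∨ π c * (w : _) * (π c)⁻¹ = π zK) := fun w hw => by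
      rcases (hcenter w).1 hw with h' | h' <;> rw [h']
      · left; group
      · right
        rw [← map_mul, ← map_inv, ← map_mul]
        refine congrArg π (Subtype.ext ?_)
        show (c : G) * z * (c : G)⁻¹ = z
        rw [mem_C_iff.1 c.2.1]; group
    rw [hcenter]
    have hel : π ⟨_, hQK _ (hperp y _ hy')⟩ = π c * π ⟨_, hQK _ (hperp x _ (hlift x))⟩ * (π c)⁻¹ := by
      rw [← map_inv, ← map_mul, ← map_mul]; rfl
    show (π ⟨_, hQK _ (hperp y _ hy')⟩)⁻¹ * (π c * (q : _) * (π c)⁻¹) = 1 ∨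
      (π ⟨_, hQK _ (hperp y _ hy')⟩)⁻¹ * (π c * (q : _) * (π c)⁻¹) = π zK
    rw [hel]
    have := hconj _ hq'
    simp only [Subgroup.coe_mul, Subgroup.coe_inv] at this
    rcases this with h' | h'
    · left; rw [← h']; group; rfl
    · right; rw [← h']; group; rfl

/-- the centraliser of an involution not conjugate to `z` is of Baby Monster type -/
theorem baby_of_nonconj [Finite G] [hn : ((Subgroup.zpowers t).subgroupOf (Subgroup.centralizer ({t} : Set G))).Normal]
    (htQ : t ∈ QG Q) (ht2 : orderOf t = 2) (hnt : ¬ IsConj z t) :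
    IsOfBabyMonsterType (↥(Subgroup.centralizer ({t} : Set G)) ⧸ (Subgroup.zpowers t).subgroupOf (Subgroup.centralizer ({t} : Set G))) := by
  obtain ⟨a, rfl⟩ := exists_of_mem_QG htQ
  obtain ⟨-, h, hh⟩ := D.nonconj_class ht2 hnt
  obtain ⟨k, hk⟩ := exists_g (e := e) h⁻¹
  refine (D.twist k).baby (a := a) rfl ?_ ht2 hnt
  show ψ (k • uL) = _
  rw [show ψ (k • uL) = _ from D.act hk hh]
  congr 1
  refine Subtype.ext ?_
  simp only [coe_conjQ]; group

end Data

end Cfsg.Agent.Monster
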