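import Cfsg.Prelude.Def_MonsterType
import Cfsg.Agent.Lib.Leech.Quad
import Cfsg.Agent.Lib.Leech.Classes
import Cfsg.Agent.Lib.Leech.Singular
import Cfsg.Agent.Lib.Monster.ExtraBound

set_option autoImplicit false

namespace Cfsg.Agent.Monster
open Cfsg Leech Subgroup

variable {G : Type*} [Group G] {z : G} {Q : Subgroup (Subgroup.centralizer ({z} : Set G))} [Q.Normal]

/-- Monster-type data with a chosen identification -/
structure Data {G : Type*} [Group G] {z : G} (Q : Subgroup (Subgroup.centralizer ({z} : Set G))) [Q.Normal]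
    (e : (Subgroup.centralizer ({z} : Set G)) ⧸ Q ≃* Spor.Co1) (ψ : leechLattice → Q ⧸ Subgroup.center Q) : Prop where
  core : IsExtraspecialCentralizerSetting z Q 12
  iso : IsLeechModTwoIso Q e ψ

variable {e : (Subgroup.centralizer ({z} : Set G)) ⧸ Q ≃* Spor.Co1} {ψ : leechLattice → Q ⧸ Subgroup.center Q}

theorem coe_cong {v w : ↥leechLattice} : Cong (v : Vec) (w : Vec) ↔ ∃ x : ↥leechLattice, v - w = x + x := by
  constructor
  · rintro ⟨x, hx, he⟩
    exact ⟨⟨x, hx⟩, Subtype.ext (by rw [AddSubgroup.coe_sub, he, two_nsmul]; rfl)⟩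
  · rintro ⟨x, he⟩
    exact ⟨x, x.2, by rw [← AddSubgroup.coe_sub, he, AddSubgroup.coe_add, two_nsmul]⟩

/-- conjugation of an element of `Q` -/
def conjQ (Q : Subgroup (Subgroup.centralizer ({z} : Set G))) [Q.Normal] (h : Subgroup.centralizer ({z} : Set G))
    (q : Q) : Q :=
  ⟨h * q * h⁻¹, (inferInstance : Q.Normal).conj_mem (q : Subgroup.centralizer ({z} : Set G)) q.2 h⟩

theorem coe_conjQ (h : Subgroup.centralizer ({z} : Set G)) (q : Q) :
    ((conjQ Q h q : Q) : Subgroup.centralizer ({z} : Set G)) = h * q * h⁻¹ := rfl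

theorem coe_conjQ' (h : Subgroup.centralizer ({z} : Set G)) (q : Q) :
    (((conjQ Q h q : Q) : Subgroup.centralizer ({z} : Set G)) : G) = (h : G) * ((q : Subgroup.centralizer ({z} : Set G)) : G) * (h : G)⁻¹ := rfl

namespace Data

variable (D : Data Q e ψ)
include D

theorem mul (v w : ↥leechLattice) : ψ (v + w) = ψ v * ψ w := D.iso.1 v w

theorem self_mul (v : ↥leechLattice) : ψ v * ψ v = 1 := by
  rw [← D.mul]; exact (D.iso.2.2.1 _).2 ⟨v, rfl⟩

theorem zero : ψ 0 = 1 := (D.iso.2.2.1 0).2 ⟨0, (add_zero 0).symm⟩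

theorem eq_iff {v w : ↥leechLattice} : ψ v = ψ w ↔ Cong (v : Vec) (w : Vec) := by
  have h : ψ v = ψ (v - w) * ψ w := by rw [← D.mul, sub_add_cancel]
  rw [coe_cong]
  constructor
  · intro he
    refine (D.iso.2.2.1 (v - w)).1 ?_
    rw [he] at h
    exact mul_eq_right.1 h.symm
  · intro hx
    rw [h, (D.iso.2.2.1 (v - w)).2 hx, one_mul]

theorem eq_one_iff {v : ↥leechLattice} : ψ v = 1 ↔ Cong (v : Vec) 0 := by
  rw [← D.zero, D.eq_iff]; rfl

theorem exists_rep (q : Q) : ∃ v, ψ v = QuotientGroup.mk q := D.iso.2.1 _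

theorem exists_elt (v : ↥leechLattice) : ∃ q : Q, ψ v = QuotientGroup.mk q :=
  ⟨_, (QuotientGroup.mk_surjective (ψ v)).choose_spec.symm⟩

omit D in
theorem exists_g (h : Subgroup.centralizer ({z} : Set G)) : ∃ g : ↥Co0, (QuotientGroup.mk g : Spor.Co1) = e (QuotientGroup.mk h) :=
  QuotientGroup.mk_surjective _

omit D in
theorem exists_h (g : ↥Co0) : ∃ h : Subgroup.centralizer ({z} : Set G), (QuotientGroup.mk g : Spor.Co1) = e (QuotientGroup.mk h) := by
  obtain ⟨h, hh⟩ := QuotientGroup.mk_surjective (e.symm (QuotientGroup.mk g))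
  exact ⟨h, by rw [hh, MulEquiv.apply_symm_apply]⟩

theorem act {h : Subgroup.centralizer ({z} : Set G)} {g : ↥Co0}
    (hg : (QuotientGroup.mk g : Spor.Co1) = e (QuotientGroup.mk h)) {v : ↥leechLattice} {q : Q}
    (hq : ψ v = QuotientGroup.mk q) : ψ (g • v) = QuotientGroup.mk (conjQ Q h q) :=
  D.iso.2.2.2 h g hg v q hq

theorem mem_of_trivial {h : Subgroup.centralizer ({z} : Set G)}
    (ht : ∀ q : Q, (QuotientGroup.mk (conjQ Q h q) : Q ⧸ Subgroup.center Q) = QuotientGroup.mk q) : h ∈ Q := by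
  obtain ⟨g, hg⟩ := exists_g (e := e) h
  have hk : g = 1 ∨ g = negOne := kernel_classes g fun x hx => by
    obtain ⟨q, hq⟩ := D.exists_elt ⟨x, hx⟩
    have := D.act hg hq
    rw [ht q, ← hq, D.eq_iff, ← ap_coe] at this
    exact this
  rw [← QuotientGroup.eq_one_iff, ← e.map_eq_one_iff, ← hg, QuotientGroup.eq_one_iff]
  exact center_eq.2 hk

omit D in
theorem zC_mem : z ∈ Subgroup.centralizer ({z} : Set G) :=
  Subgroup.mem_centralizer_singleton_iff.2 rfl

omit D in
/-- the distinguished involution inside its centraliser -/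
def zC (z : G) : Subgroup.centralizer ({z} : Set G) := ⟨z, Data.zC_mem⟩

omit D in
theorem zC_comm (h : Subgroup.centralizer ({z} : Set G)) : zC z * h = h * zC z :=
  Subtype.ext (Subgroup.mem_centralizer_singleton_iff.1 h.2).symm

theorem z_sq : z * z = 1 := by
  have := pow_orderOf_eq_one z
  rw [D.core.1, pow_two] at this
  exact this

theorem z_ne : z ≠ 1 := fun h => by
  have := D.core.1
  rw [h, orderOf_one] at this
  omega

theorem zC_memQ : zC z ∈ Q := D.mem_of_trivial fun q => congrArg QuotientGroup.mk (Subtype.ext (by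
  rw [coe_conjQ, zC_comm, mul_inv_cancel_right]))

theorem zC_sq : zC z * zC z = 1 := Subtype.ext D.z_sq

theorem zC_ne : zC z ≠ 1 := fun h => D.z_ne (congrArg Subtype.val h)

/-- the central involution of `Q` -/
theorem mem_center_iff' {c : Q} : c ∈ Subgroup.center Q ↔ c = 1 ∨ (c : Subgroup.centralizer ({z} : Set G)) = zC z := by
  have hzc : (⟨zC z, D.zC_memQ⟩ : Q) ∈ Subgroup.center Q :=
    Subgroup.mem_center_iff.2 fun y => Subtype.ext (zC_comm (y : Subgroup.centralizer ({z} : Set G))).symm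
  constructor
  · intro hc
    by_contra hne
    push Not at hne
    have hcard := D.core.2.2.1.2
    haveI : Finite (Subgroup.center Q) := Nat.finite_of_card_ne_zero (by rw [hcard]; norm_num)
    haveI := Fintype.ofFinite (Subgroup.center Q)
    classical
    have h3 : ({1, ⟨_, hzc⟩, ⟨c, hc⟩} : Finset (Subgroup.center Q)).card = 3 := by
      rw [Finset.card_eq_three]
      refine ⟨_, _, _, fun h => D.zC_ne ?_, fun h => hne.1 ?_, fun h => hne.2 ?_, rfl⟩
      · exact (congrArg Subtype.val (congrArg Subtype.val h)).symm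
      · exact (congrArg Subtype.val h).symm
      · exact (congrArg Subtype.val (congrArg Subtype.val h)).symm
    have := Finset.card_le_univ ({1, ⟨_, hzc⟩, ⟨c, hc⟩} : Finset (Subgroup.center Q))
    rw [← Nat.card_eq_fintype_card, hcard, h3] at this
    omega
  · rintro (rfl | h)
    · exact one_mem _
    · have : c = ⟨zC z, D.zC_memQ⟩ := Subtype.ext h
      rw [this]; exact hzc

theorem center_mul_self {c : Q} (hc : c ∈ Subgroup.center Q) : c * c = 1 := by
  rcases D.mem_center_iff'.1 hc with rfl | h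
  · rw [mul_one]
  · exact Subtype.ext (by rw [Subgroup.coe_mul, h, D.zC_sq]; rfl)

theorem conjQ_center {c : Q} (hc : c ∈ Subgroup.center Q) (h : Subgroup.centralizer ({z} : Set G)) :
    conjQ Q h c = c := by
  refine Subtype.ext ?_
  rw [coe_conjQ]
  rcases D.mem_center_iff'.1 hc with rfl | h'
  · simp
  · rw [h', ← zC_comm, mul_inv_cancel_right]

theorem sq_mem_center (q : Q) : q * q ∈ Subgroup.center Q := by
  obtain ⟨v, hv⟩ := D.exists_rep q
  have := D.self_mul v
  rw [hv] at this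
  exact (QuotientGroup.eq_one_iff _).1 this

theorem com_mem_center (a b : Q) : a * b * a⁻¹ * b⁻¹ ∈ Subgroup.center Q :=
  ClassK.commutator_mem_center_of_special D.core.2.2.1.1 a b

omit D in
open scoped Classical in
/-- the sign of a central element -/
noncomputable def sgn (c : Q) : ZMod 2 := if c = 1 then 0 else 1

omit D in
theorem sgn_eq_zero {c : Q} : sgn c = 0 ↔ c = 1 := by
  by_cases h : c = 1 <;> simp [sgn, h]

theorem sgn_mul {c d : Q} (hc : c ∈ Subgroup.center Q) (hd : d ∈ Subgroup.center Q) : sgn (c * d) = sgn c + sgn d := by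
  by_cases hc1 : c = 1
  · rw [hc1, one_mul, sgn_eq_zero.2 rfl, zero_add]
  by_cases hd1 : d = 1
  · rw [hd1, mul_one, sgn_eq_zero.2 rfl, add_zero]
  have h1 := (D.mem_center_iff'.1 hc).resolve_left hc1
  have h2 := (D.mem_center_iff'.1 hd).resolve_left hd1
  have : c = d := Subtype.ext (h1.trans h2.symm)
  subst this
  rw [D.center_mul_self hc]
  simp [sgn, hc1]; rfl

theorem mk_eq_iff {a b : Q} : (QuotientGroup.mk a : Q ⧸ Subgroup.center Q) = QuotientGroup.mk b → a * a = b * b := by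
  intro h
  rw [QuotientGroup.eq] at h
  have : b = a * (a⁻¹ * b) := by group
  rw [this]
  generalize a⁻¹ * b = c at h
  have hcc := Subgroup.mem_center_iff.1 h
  rw [show a * c * (a * c) = a * (c * a) * c by group, ← hcc a, show a * (a * c) * c = a * a * (c * c) by group,
    D.center_mul_self h, mul_one]

theorem mul_sq (a b : Q) : sgn (a * b * (a * b)) = sgn (a * a) + sgn (b * b) + sgn (b * a * b⁻¹ * a⁻¹) := by
  have hk := D.com_mem_center b a
  have hkc := Subgroup.mem_center_iff.1 hk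
  have e : a * b * (a * b) = a * a * (b * b) * (b * a * b⁻¹ * a⁻¹) := by
    calc a * b * (a * b) = a * ((b * a * b⁻¹ * a⁻¹) * a * b) * b := by group
      _ = a * (a * (b * a * b⁻¹ * a⁻¹) * b) * b := by rw [hkc a]
      _ = a * a * ((b * a * b⁻¹ * a⁻¹) * (b * b)) := by group
      _ = _ := by rw [← hkc (b * b)]; group
  rw [e, D.sgn_mul (mul_mem (D.sq_mem_center a) (D.sq_mem_center b)) hk, D.sgn_mul (D.sq_mem_center a) (D.sq_mem_center b)]

theorem com_add (c a b : Q) : sgn (c * (a * b) * c⁻¹ * (a * b)⁻¹) =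
    sgn (c * a * c⁻¹ * a⁻¹) + sgn (c * b * c⁻¹ * b⁻¹) := by
  have hkb := D.com_mem_center c b
  have hkc := Subgroup.mem_center_iff.1 hkb
  have e : c * (a * b) * c⁻¹ * (a * b)⁻¹ = c * a * c⁻¹ * a⁻¹ * (c * b * c⁻¹ * b⁻¹) := by
    calc c * (a * b) * c⁻¹ * (a * b)⁻¹ = c * a * c⁻¹ * ((c * b * c⁻¹ * b⁻¹) * a⁻¹) := by group
      _ = c * a * c⁻¹ * (a⁻¹ * (c * b * c⁻¹ * b⁻¹)) := by rw [hkc a⁻¹]
      _ = _ := by group
  rw [e, D.sgn_mul (D.com_mem_center c a) hkb]

theorem not_all_sq : ¬ ∀ q : Q, q * q = 1 := fun h => by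
  have htop : Subgroup.center Q = ⊤ := eq_top_iff.2 fun x _ => Subgroup.mem_center_iff.2 fun y => by
    have hx := inv_eq_of_mul_eq_one_left (h x)
    have hy := inv_eq_of_mul_eq_one_left (h y)
    have hxy := inv_eq_of_mul_eq_one_left (h (x * y))
    rw [mul_inv_rev, hx, hy] at hxy
    exact hxy
  have := D.core.2.2.1.2
  rw [htop, Subgroup.card_top, D.core.2.2.2.1] at this
  norm_num at this

/-- squaring is the quadratic form -/
theorem sq_eq {v : ↥leechLattice} {q : Q} (hq : ψ v = QuotientGroup.mk q) :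
    sgn (q * q) = ((sqNorm (v : Vec) / 16 : ℤ) : ZMod 2) := by
  let F : ↥leechLattice → ZMod 2 := fun v => sgn ((D.exists_elt v).choose * (D.exists_elt v).choose)
  have hF : ∀ v q, ψ v = QuotientGroup.mk q → F v = sgn (q * q) := fun v q hq => by
    show sgn _ = _
    rw [D.mk_eq_iff ((D.exists_elt v).choose_spec.symm.trans hq)]
  have H : QHyp F := by
    refine ⟨fun v w => ?_, fun u v w => ?_, fun g v => ?_⟩
    · obtain ⟨q, hq⟩ := D.exists_elt v
      rw [hF v q hq, hF (v + (w + w)) q (by rw [D.mul, D.mul, D.self_mul, mul_one, hq])]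
    · obtain ⟨a, ha⟩ := D.exists_elt u
      obtain ⟨b, hb⟩ := D.exists_elt v
      obtain ⟨c, hc⟩ := D.exists_elt w
      rw [hF u a ha, hF v b hb, hF w c hc, hF (u + v) (a * b) (by rw [D.mul, ha, hb]; rfl),
        hF (u + w) (a * c) (by rw [D.mul, ha, hc]; rfl), hF (v + w) (b * c) (by rw [D.mul, hb, hc]; rfl),
        hF (u + v + w) (a * b * c) (by rw [D.mul, D.mul, ha, hb, hc]; rfl),
        D.mul_sq (a * b) c, D.com_add c a b, D.mul_sq a b, D.mul_sq a c, D.mul_sq b c]
      generalize sgn (a * a) = x1, sgn (b * b) = x2, sgn (c * c) = x3, sgn (b * a * b⁻¹ * a⁻¹) = x4,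
        sgn (c * a * c⁻¹ * a⁻¹) = x5, sgn (c * b * c⁻¹ * b⁻¹) = x6
      revert x1 x2 x3 x4 x5 x6
      decide
    · obtain ⟨q, hq⟩ := D.exists_elt v
      obtain ⟨h, hh⟩ := exists_h (e := e) g
      rw [hF v q hq, hF (g • v) _ (D.act hh hq)]
      have : conjQ Q h q * conjQ Q h q = conjQ Q h (q * q) := Subtype.ext (by
        simp only [Subgroup.coe_mul, coe_conjQ]; group)
      rw [this, D.conjQ_center (D.sq_mem_center q)]
  have hne : ∃ v, F v ≠ 0 := by
    obtain ⟨q, hq⟩ := not_forall.1 D.not_all_sq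
    obtain ⟨v, hv⟩ := D.exists_rep q
    exact ⟨v, by rw [hF v q hv, Ne, sgn_eq_zero]; exact hq⟩
  rw [← hF v q hq]
  exact H.unique hne v

theorem sq_one_iff {v : ↥leechLattice} {q : Q} (hq : ψ v = QuotientGroup.mk q) :
    q * q = 1 ↔ (32 : ℤ) ∣ sqNorm (v : Vec) := by
  have h16 := sqNorm_sixteen v.2
  rw [← sgn_eq_zero, D.sq_eq hq, ZMod.intCast_zmod_eq_zero_iff_dvd]
  omega

theorem comm_iff {v w : ↥leechLattice} {a b : Q} (ha : ψ v = QuotientGroup.mk a) (hb : ψ w = QuotientGroup.mk b) :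
    a * b = b * a ↔ (16 : ℤ) ∣ dotInt (v : Vec) (w : Vec) := by
  have hab : ψ (v + w) = QuotientGroup.mk (a * b) := by rw [D.mul, ha, hb]; rfl
  have h := D.sq_eq hab
  rw [D.mul_sq, D.sq_eq ha, D.sq_eq hb] at h
  have h8 := dot_eight v.2 w.2
  have hv := sqNorm_sixteen v.2
  have hw := sqNorm_sixteen w.2
  have e : sqNorm ((v + w : ↥leechLattice) : Vec) / 16 =
      sqNorm (v : Vec) / 16 + sqNorm (w : Vec) / 16 + dotInt (v : Vec) (w : Vec) / 8 := by
    rw [AddSubgroup.coe_add, sqNorm_add]; omega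
  rw [e, Int.cast_add, Int.cast_add, add_right_inj] at h
  rw [show a * b = b * a ↔ b * a * b⁻¹ * a⁻¹ = 1 by rw [mul_inv_eq_one, mul_inv_eq_iff_eq_mul]; exact eq_comm,
    ← sgn_eq_zero, h, ZMod.intCast_zmod_eq_zero_iff_dvd]
  omega

theorem noncentral_iff {v : ↥leechLattice} {q : Q} (hq : ψ v = QuotientGroup.mk q) :
    q ∉ Subgroup.center Q ↔ ¬ Cong (v : Vec) 0 := by
  rw [← D.eq_one_iff, hq, QuotientGroup.eq_one_iff]

theorem exists_noncomm {q : Q} (hq : q ∉ Subgroup.center Q) : ∃ r : Q, r * q * r⁻¹ = q * ⟨zC z, D.zC_memQ⟩ := by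
  obtain ⟨r, hr⟩ : ∃ r : Q, r * q ≠ q * r := by
    by_contra hc
    push Not at hc
    exact hq (Subgroup.mem_center_iff.2 hc)
  refine ⟨r, ?_⟩
  have hk := D.com_mem_center r q
  have hne : r * q * r⁻¹ * q⁻¹ ≠ 1 := by rwa [Ne, mul_inv_eq_one, mul_inv_eq_iff_eq_mul]
  have he : r * q * r⁻¹ * q⁻¹ = ⟨zC z, D.zC_memQ⟩ := Subtype.ext ((D.mem_center_iff'.1 hk).resolve_left hne)
  calc r * q * r⁻¹ = (r * q * r⁻¹ * q⁻¹) * q := by group
    _ = _ := by rw [he]; exact Subtype.ext (zC_comm _)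

theorem mk_eq_cases {a b : Q} (h : (QuotientGroup.mk a : Q ⧸ Subgroup.center Q) = QuotientGroup.mk b) :
    b = a ∨ b = a * ⟨zC z, D.zC_memQ⟩ := by
  rw [QuotientGroup.eq] at h
  rcases D.mem_center_iff'.1 h with h' | h'
  · exact Or.inl (by rw [← mul_one a, ← h', mul_inv_cancel_left])
  · right
    have : a⁻¹ * b = ⟨zC z, D.zC_memQ⟩ := Subtype.ext h'
    rw [← this, mul_inv_cancel_left]

/-- orbits on classes give conjugacy -/
theorem conj_of_clEq {v w : ↥leechLattice} {a b : Q} (ha : ψ v = QuotientGroup.mk a) (hb : ψ w = QuotientGroup.mk b)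
    (hnc : a ∉ Subgroup.center Q) (hvw : ClEq (v : Vec) (w : Vec)) :
    ∃ h : Subgroup.centralizer ({z} : Set G), conjQ Q h a = b := by
  obtain ⟨g, hg⟩ := hvw
  obtain ⟨h, hh⟩ := exists_h (e := e) g
  have hc := D.act hh ha
  rw [ap_coe] at hg
  rw [(D.eq_iff).2 hg, hb] at hc
  rcases D.mk_eq_cases hc.symm with h1 | h1
  · exact ⟨h, h1.symm⟩
  obtain ⟨r, hr⟩ := D.exists_noncomm hnc
  refine ⟨h * r, ?_⟩
  rw [h1]
  refine Subtype.ext ?_
  have hr' := congrArg Subtype.val hr
  simp only [Subgroup.coe_mul, Subgroup.coe_inv] at hr'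
  simp only [coe_conjQ, Subgroup.coe_mul]
  rw [mul_inv_rev, show h * (r : Subgroup.centralizer ({z} : Set G)) * a * ((r : Subgroup.centralizer ({z} : Set G))⁻¹ * h⁻¹) =
    h * ((r : Subgroup.centralizer ({z} : Set G)) * a * (r : Subgroup.centralizer ({z} : Set G))⁻¹) * h⁻¹ by group, hr']
  rw [show h * ((a : Subgroup.centralizer ({z} : Set G)) * zC z) * h⁻¹ = h * a * (zC z * h⁻¹) by group, zC_comm h⁻¹]
  group

theorem commutes_of_fix {v : ↥leechLattice} {a : Q} (ha : ψ v = QuotientGroup.mk a) (hnc : a ∉ Subgroup.center Q)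
    {g : ↥Co0} (hg : Cong (ap g (v : Vec)) (v : Vec)) :
    ∃ h : Subgroup.centralizer ({z} : Set G), (QuotientGroup.mk g : Spor.Co1) = e (QuotientGroup.mk h) ∧ conjQ Q h a = a := by
  obtain ⟨h, hh⟩ := exists_h (e := e) g
  have hc := D.act hh ha
  rw [ap_coe] at hg
  rw [(D.eq_iff).2 hg, ha] at hc
  rcases D.mk_eq_cases hc.symm with h1 | h1
  · exact ⟨h, hh, h1.symm⟩
  obtain ⟨r, hr⟩ := D.exists_noncomm hnc
  refine ⟨h * r, ?_, ?_⟩
  · rw [hh]
    congr 1
    rw [QuotientGroup.mk_mul, (QuotientGroup.eq_one_iff _).2 r.2, mul_one]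
  conv_rhs => rw [h1]
  refine Subtype.ext ?_
  have hr' := congrArg Subtype.val hr
  simp only [Subgroup.coe_mul, Subgroup.coe_inv] at hr'
  simp only [coe_conjQ, Subgroup.coe_mul]
  rw [mul_inv_rev, show h * (r : Subgroup.centralizer ({z} : Set G)) * a * ((r : Subgroup.centralizer ({z} : Set G))⁻¹ * h⁻¹) =
    h * ((r : Subgroup.centralizer ({z} : Set G)) * a * (r : Subgroup.centralizer ({z} : Set G))⁻¹) * h⁻¹ by group, hr']
  rw [show h * ((a : Subgroup.centralizer ({z} : Set G)) * zC z) * h⁻¹ = h * a * (zC z * h⁻¹) by group, zC_comm h⁻¹]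
  group

theorem fix_of_commutes {v : ↥leechLattice} {a : Q} (ha : ψ v = QuotientGroup.mk a)
    {h : Subgroup.centralizer ({z} : Set G)} (hc : conjQ Q h a = a) {g : ↥Co0}
    (hg : (QuotientGroup.mk g : Spor.Co1) = e (QuotientGroup.mk h)) : Cong (ap g (v : Vec)) (v : Vec) := by
  rw [ap_coe, ← D.eq_iff, D.act hg ha, hc, ha]

/-- the elementary abelian subgroup of maximal order -/
theorem exists_elementary [Finite G] :
    ∃ E : Subgroup Q, IsElementaryAbelian 2 E ∧ Nat.card E = 2 ^ 13 := by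
  let Ψ : ↥leechLattice →+ Additive (Q ⧸ Subgroup.center Q) :=
    AddMonoidHom.mk' (fun v => Additive.ofMul (ψ v)) fun v w => congrArg Additive.ofMul (D.mul v w)
  have hΨ : Function.Surjective Ψ := fun y => (D.iso.2.1 y.toMul).imp fun v hv => congrArg Additive.ofMul hv
  set A := fourSub.addSubgroupOf leechLattice with hA
  have hker : Ψ.ker ≤ A := fun v hv => by
    obtain ⟨w, hw⟩ := (D.iso.2.2.1 v).1 hv
    show (v : Vec) ∈ fourSub
    rw [hw, AddSubgroup.coe_add, ← two_zsmul]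
    exact two_smul_mem_fourSub w.2
  have hidx : (A.map Ψ).index = 2 ^ 12 := by
    rw [AddSubgroup.index_map_eq A hΨ hker, hA, fourSub_index]
  set B : Subgroup (Q ⧸ Subgroup.center Q) := (AddSubgroup.toSubgroup' (A.map Ψ)) with hB
  have hBidx : B.index = 2 ^ 12 := by
    rw [← hidx]; rfl
  refine ⟨B.comap (QuotientGroup.mk' _), ?_, ?_⟩
  · have hsq : ∀ q ∈ B.comap (QuotientGroup.mk' (Subgroup.center Q)), q * q = 1 := fun q hq => by
      obtain ⟨v, hv, hvq⟩ := hq
      exact (D.sq_one_iff (v := v) (congrArg Additive.toMul hvq)).2 (fourSub_norm hv)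
    refine ⟨⟨⟨fun a b => Subtype.ext ?_⟩⟩, fun a ha => by rw [pow_two]; exact hsq a ha⟩
    have ha := inv_eq_of_mul_eq_one_left (hsq a a.2)
    have hb := inv_eq_of_mul_eq_one_left (hsq b b.2)
    have hab := inv_eq_of_mul_eq_one_left (hsq _ (mul_mem a.2 b.2))
    rw [mul_inv_rev, ha, hb] at hab
    exact hab.symm
  · have h1 := Subgroup.index_mul_card (B.comap (QuotientGroup.mk' (Subgroup.center Q)))
    rw [Subgroup.index_comap_of_surjective _ (QuotientGroup.mk'_surjective _), hBidx, D.core.2.2.2.1] at h1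
    norm_num at h1 ⊢
    omega

end Data

end Cfsg.Agent.Monster
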