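import Cfsg.Agent.Lib.Monster.Basic
import Cfsg.Agent.Lib.Leech.Frame
import Cfsg.Agent.Lib.Leech.UStab

set_option autoImplicit false

namespace Cfsg.Agent.Monster
open Cfsg Leech Subgroup

variable {G : Type*} [Group G] {z : G} {Q : Subgroup (Subgroup.centralizer ({z} : Set G))} [Q.Normal]
  {e : (Subgroup.centralizer ({z} : Set G)) ⧸ Q ≃* Spor.Co1} {ψ : leechLattice → Q ⧸ Subgroup.center Q}

/-- `Q` as a subgroup of the whole group -/
def QG (Q : Subgroup (Subgroup.centralizer ({z} : Set G))) : Subgroup G :=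
  Q.map (Subgroup.centralizer ({z} : Set G)).subtype

/-- the conjugate of `Q` by `g` -/
def RG (Q : Subgroup (Subgroup.centralizer ({z} : Set G))) (g : G) : Subgroup G :=
  (QG Q).map (MulAut.conj g).toMonoidHom

omit [Q.Normal] in
theorem mem_QG {a : G} : a ∈ QG Q ↔ ∃ h : a ∈ Subgroup.centralizer ({z} : Set G), (⟨a, h⟩ : Subgroup.centralizer ({z} : Set G)) ∈ Q := by
  constructor
  · rintro ⟨c, hc, rfl⟩; exact ⟨c.2, hc⟩
  · rintro ⟨h, hc⟩; exact ⟨⟨a, h⟩, hc, rfl⟩

omit [Q.Normal] in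
theorem coe_mem_QG (a : Q) : ((a : Subgroup.centralizer ({z} : Set G)) : G) ∈ QG Q := ⟨a, a.2, rfl⟩

omit [Q.Normal] in
theorem exists_of_mem_QG {a : G} (h : a ∈ QG Q) : ∃ q : Q, ((q : Subgroup.centralizer ({z} : Set G)) : G) = a := by
  obtain ⟨c, hc, rfl⟩ := h; exact ⟨⟨c, hc⟩, rfl⟩

omit [Q.Normal] in
theorem QG_le : QG Q ≤ Subgroup.centralizer ({z} : Set G) := fun _ ha => (mem_QG.1 ha).1

omit [Q.Normal] in
theorem mem_RG {g a : G} : a ∈ RG Q g ↔ g⁻¹ * a * g ∈ QG Q := by
  constructor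
  · rintro ⟨b, hb, rfl⟩
    have : g⁻¹ * (MulAut.conj g).toMonoidHom b * g = b := by
      show g⁻¹ * (g * b * g⁻¹) * g = b; group
    rw [this]; exact hb
  · intro h
    exact ⟨_, h, show g * (g⁻¹ * a * g) * g⁻¹ = a by group⟩

omit [Q.Normal] in
theorem mem_C_iff {a : G} : a ∈ Subgroup.centralizer ({z} : Set G) ↔ a * z = z * a :=
  Subgroup.mem_centralizer_singleton_iff

theorem comm_conj_iff {g a b : G} : a * (g * b * g⁻¹) = g * b * g⁻¹ * a ↔ g⁻¹ * a * g * b = b * (g⁻¹ * a * g) := by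
  constructor <;> intro h
  · calc g⁻¹ * a * g * b = g⁻¹ * (a * (g * b * g⁻¹)) * g := by group
      _ = _ := by rw [h]; group
  · calc a * (g * b * g⁻¹) = g * (g⁻¹ * a * g * b) * g⁻¹ := by group
      _ = _ := by rw [h]; group

omit [Q.Normal] in
theorem conj_mem_C_iff {g a : G} : g⁻¹ * a * g ∈ Subgroup.centralizer ({z} : Set G) ↔
    a * (g * z * g⁻¹) = g * z * g⁻¹ * a := by
  rw [mem_C_iff, comm_conj_iff]

namespace Data

variable (D : Data Q e ψ)
include D

theorem z_memQG : z ∈ QG Q := coe_mem_QG (⟨zC z, D.zC_memQ⟩ : Q)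

theorem card_QG : Nat.card (QG Q) = 2 ^ 25 := by
  have : Nat.card (QG Q) = Nat.card Q :=
    Nat.card_congr (Q.equivMapOfInjective _ Subtype.val_injective).symm.toEquiv
  rw [this, D.core.2.2.2.1]

omit D in
theorem conj_memQG {c a : G} (hc : c ∈ Subgroup.centralizer ({z} : Set G)) (ha : a ∈ QG Q) : c * a * c⁻¹ ∈ QG Q := by
  obtain ⟨q, rfl⟩ := exists_of_mem_QG ha
  exact coe_mem_QG (conjQ Q ⟨c, hc⟩ q)

theorem center_val {c : Q} (hc : c ∈ Subgroup.center Q) :
    ((c : Subgroup.centralizer ({z} : Set G)) : G) = 1 ∨ ((c : Subgroup.centralizer ({z} : Set G)) : G) = z := by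
  rcases D.mem_center_iff'.1 hc with rfl | h
  · exact Or.inl rfl
  · exact Or.inr (by rw [h]; rfl)

theorem com_QG {a b : G} (ha : a ∈ QG Q) (hb : b ∈ QG Q) : a * b * a⁻¹ * b⁻¹ = 1 ∨ a * b * a⁻¹ * b⁻¹ = z := by
  obtain ⟨p, rfl⟩ := exists_of_mem_QG ha
  obtain ⟨q, rfl⟩ := exists_of_mem_QG hb
  exact D.center_val (D.com_mem_center p q)

theorem sq_QG {a : G} (ha : a ∈ QG Q) : a * a = 1 ∨ a * a = z := by
  obtain ⟨p, rfl⟩ := exists_of_mem_QG ha
  exact D.center_val (D.sq_mem_center p)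

theorem trivial_QG {c : G} (hc : c ∈ Subgroup.centralizer ({z} : Set G))
    (h : ∀ a ∈ QG Q, c * a * c⁻¹ * a⁻¹ = 1 ∨ c * a * c⁻¹ * a⁻¹ = z) : c ∈ QG Q := by
  refine mem_QG.2 ⟨hc, D.mem_of_trivial fun q => ?_⟩
  rw [eq_comm, QuotientGroup.eq]
  have hk : conjQ Q ⟨c, hc⟩ q * q⁻¹ ∈ Subgroup.center Q := by
    refine D.mem_center_iff'.2 ?_
    rcases h _ (coe_mem_QG q) with h' | h'
    · exact Or.inl (Subtype.ext (Subtype.ext h'))
    · exact Or.inr (Subtype.ext h')
  rw [show q⁻¹ * conjQ Q ⟨c, hc⟩ q = q⁻¹ * (conjQ Q ⟨c, hc⟩ q * q⁻¹) * q by group,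
    Subgroup.mem_center_iff.1 hk q⁻¹]
  simpa using hk

variable {g : G}

theorem card_RG : Nat.card (RG Q g) = 2 ^ 25 := by
  rw [RG, Nat.card_congr ((QG Q).equivMapOfInjective _ (MulAut.conj g).injective).symm.toEquiv, D.card_QG]

omit D in
theorem RG_le : RG Q g ≤ Subgroup.centralizer ({g * z * g⁻¹} : Set G) := fun a ha =>
  Subgroup.mem_centralizer_singleton_iff.2 (conj_mem_C_iff.1 (QG_le (mem_RG.1 ha)))

theorem x_memRG : g * z * g⁻¹ ∈ RG Q g := mem_RG.2 (by
  rw [show g⁻¹ * (g * z * g⁻¹) * g = z by group]; exact D.z_memQG)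

omit D in
theorem conj_memRG {c a : G} (hc : c * (g * z * g⁻¹) = g * z * g⁻¹ * c) (ha : a ∈ RG Q g) : c * a * c⁻¹ ∈ RG Q g := by
  rw [mem_RG] at ha ⊢
  rw [show g⁻¹ * (c * a * c⁻¹) * g = (g⁻¹ * c * g) * (g⁻¹ * a * g) * (g⁻¹ * c * g)⁻¹ by group]
  exact Data.conj_memQG (conj_mem_C_iff.2 hc) ha

omit D in
theorem of_conj_eq {a : G} (h : g⁻¹ * a * g = 1 ∨ g⁻¹ * a * g = z) : a = 1 ∨ a = g * z * g⁻¹ := by
  rcases h with h | h
  · left; rw [show a = g * (g⁻¹ * a * g) * g⁻¹ by group, h]; group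
  · right; rw [show a = g * (g⁻¹ * a * g) * g⁻¹ by group, h]

theorem com_RG {a b : G} (ha : a ∈ RG Q g) (hb : b ∈ RG Q g) :
    a * b * a⁻¹ * b⁻¹ = 1 ∨ a * b * a⁻¹ * b⁻¹ = g * z * g⁻¹ := by
  refine of_conj_eq ?_
  rw [show g⁻¹ * (a * b * a⁻¹ * b⁻¹) * g = (g⁻¹ * a * g) * (g⁻¹ * b * g) * (g⁻¹ * a * g)⁻¹ * (g⁻¹ * b * g)⁻¹ by group]
  exact D.com_QG (mem_RG.1 ha) (mem_RG.1 hb)

theorem sq_RG {a : G} (ha : a ∈ RG Q g) : a * a = 1 ∨ a * a = g * z * g⁻¹ := by
  refine of_conj_eq ?_
  rw [show g⁻¹ * (a * a) * g = (g⁻¹ * a * g) * (g⁻¹ * a * g) by group]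
  exact D.sq_QG (mem_RG.1 ha)

theorem card_centralizer_single [Finite G] {a : Q} (hnc : a ∉ Subgroup.center Q) :
    Nat.card (Subgroup.centralizer ({a} : Set Q)) = 2 ^ 24 := by
  have h2 := ClassK.centralizer_index_le_two D.core.2.2.1 a
  have hne : (Subgroup.centralizer ({a} : Set Q)).index ≠ 1 := fun h => hnc (Subgroup.mem_center_iff.2 fun y => by
    have := Subgroup.index_eq_one.1 h ▸ Subgroup.mem_top y
    exact Subgroup.mem_centralizer_singleton_iff.1 this)
  have h0 : (Subgroup.centralizer ({a} : Set Q)).index ≠ 0 := Subgroup.index_ne_zero_of_finite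
  have := Subgroup.index_mul_card (Subgroup.centralizer ({a} : Set Q))
  rw [D.core.2.2.2.1, show (Subgroup.centralizer ({a} : Set Q)).index = 2 by omega] at this
  norm_num at this ⊢
  omega

theorem double_centralizer [Finite G] {a : Q} (hnc : a ∉ Subgroup.center Q) {b : Q}
    (hb : b ∈ Subgroup.centralizer ((Subgroup.centralizer ({a} : Set Q) : Subgroup Q) : Set Q)) :
    b ∈ Subgroup.center Q ∨ a⁻¹ * b ∈ Subgroup.center Q := by
  classical
  set M := Subgroup.centralizer ((Subgroup.centralizer ({a} : Set Q) : Subgroup Q) : Set Q) with hM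
  have hle := card_mul_centralizer_le D.core.2.2.1 (Subgroup.centralizer ({a} : Set Q))
  rw [D.card_centralizer_single hnc, D.core.2.2.2.1, ← hM] at hle
  have h4 : Nat.card M ≤ 4 := by norm_num at hle; omega
  have hzM : Subgroup.center Q ≤ M := Subgroup.center_le_centralizer _
  have haM : a ∈ M := Subgroup.mem_centralizer_iff.2 fun c hc => Subgroup.mem_centralizer_singleton_iff.1 hc
  let c : Q := ⟨zC z, D.zC_memQ⟩
  have hcc : c ∈ Subgroup.center Q := D.mem_center_iff'.2 (Or.inr rfl)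
  have hc1 : c ≠ 1 := fun h => D.zC_ne (congrArg Subtype.val h)
  by_contra hcon
  push Not at hcon
  have hS : ({1, c, a, a * c, b} : Finset Q).card = 5 := by
    have h1 : a ≠ 1 := fun h => hnc (h ▸ one_mem _)
    have h2 : a ≠ c := fun h => hnc (h ▸ hcc)
    have h3 : a * c ≠ 1 := fun h => hnc (by rw [eq_inv_of_mul_eq_one_left h]; exact inv_mem hcc)
    have h4 : a * c ≠ c := fun h => h1 (mul_eq_right.1 h)
    have h5 : a * c ≠ a := fun h => hc1 (mul_eq_left.1 h)
    have h6 : b ≠ 1 := fun h => hcon.1 (h ▸ one_mem _)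
    have h7 : b ≠ c := fun h => hcon.1 (h ▸ hcc)
    have h8 : b ≠ a := fun h => hcon.2 (by rw [h, inv_mul_cancel]; exact one_mem _)
    have h9 : b ≠ a * c := fun h => hcon.2 (by rw [h, inv_mul_cancel_left]; exact hcc)
    simp [Finset.card_insert_of_notMem, hc1.symm, h1.symm, h2.symm, h3.symm, h4.symm, h5.symm, h6.symm, h7.symm, h8.symm, h9.symm]
  have hsub : (({1, c, a, a * c, b} : Finset Q) : Set Q) ⊆ M := by
    simp only [Finset.coe_insert, Finset.coe_singleton, Set.insert_subset_iff, Set.singleton_subset_iff, SetLike.mem_coe]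
    exact ⟨one_mem _, hzM hcc, haM, mul_mem haM (hzM hcc), hb⟩
  have := Set.ncard_le_ncard hsub (Set.toFinite _)
  rw [Set.ncard_coe_finset, hS, ← Nat.card_coe_set_eq] at this
  simp only [SetLike.coe_sort_coe] at this
  omega

omit D in
theorem finite_Co0 [Finite G] (e : (Subgroup.centralizer ({z} : Set G)) ⧸ Q ≃* Spor.Co1) : Finite ↥Co0 := by
  haveI : Finite Spor.Co1 := Finite.of_equiv _ e.toEquiv
  haveI : Finite (Subgroup.center ↥Co0) :=
    Set.Finite.to_subtype (s := ((Subgroup.center ↥Co0 : Subgroup ↥Co0) : Set ↥Co0))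
      ((Set.toFinite ({1, negOne} : Set ↥Co0)).subset fun g hg => by simpa using center_eq.1 hg)
  refine Nat.finite_of_card_ne_zero ?_
  rw [Subgroup.card_eq_card_quotient_mul_card_subgroup (Subgroup.center ↥Co0)]
  exact Nat.mul_ne_zero (Nat.card_pos (α := Spor.Co1)).ne' Nat.card_pos.ne'

omit D in
/-- the image in the Conway group -/
def imgCo (e : (Subgroup.centralizer ({z} : Set G)) ⧸ Q ≃* Spor.Co1) (H : Subgroup G) : Subgroup Spor.Co1 :=
  (H.subgroupOf (Subgroup.centralizer ({z} : Set G))).map (e.toMonoidHom.comp (QuotientGroup.mk' Q))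

omit D in
theorem card_eq_imgCo [Finite G] {H : Subgroup G} (hH : H ≤ Subgroup.centralizer ({z} : Set G)) :
    Nat.card (imgCo e H) * Nat.card (H ⊓ QG Q : Subgroup G) = Nat.card H := by
  have h := card_map_mul (e.toMonoidHom.comp (QuotientGroup.mk' Q)) (H.subgroupOf (Subgroup.centralizer ({z} : Set G)))
  have hk : (e.toMonoidHom.comp (QuotientGroup.mk' Q)).ker = Q := by
    ext c
    rw [MonoidHom.mem_ker, MonoidHom.comp_apply]
    exact e.map_eq_one_iff.trans (QuotientGroup.eq_one_iff c)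
  rw [hk, Nat.card_congr (Subgroup.subgroupOfEquivOfLe hH).toEquiv] at h
  rw [← h, imgCo]
  congr 1
  have : H.subgroupOf (Subgroup.centralizer ({z} : Set G)) ⊓ Q = (H ⊓ QG Q).subgroupOf (Subgroup.centralizer ({z} : Set G)) := by
    ext c
    simp only [Subgroup.mem_inf, Subgroup.mem_subgroupOf]
    exact and_congr_right fun _ => ⟨fun hc => mem_QG.2 ⟨c.2, hc⟩, fun hc => (mem_QG.1 hc).2⟩
  rw [this, Nat.card_congr (Subgroup.subgroupOfEquivOfLe (inf_le_left.trans hH)).toEquiv]

/-- a normal subgroup of the double centraliser maps into a small normal subgroup -/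
theorem imgCo_bound [Finite G] {v : ↥leechLattice} {a : Q} (ha : ψ v = QuotientGroup.mk a) (hnc : a ∉ Subgroup.center Q)
    {H : Subgroup G} (hC : H ≤ Subgroup.centralizer ({z} : Set G))
    (hx : ∀ d ∈ H, d * ((a : Subgroup.centralizer ({z} : Set G)) : G) = ((a : Subgroup.centralizer ({z} : Set G)) : G) * d)
    (hn : ∀ c ∈ Subgroup.centralizer ({z} : Set G),
      c * ((a : Subgroup.centralizer ({z} : Set G)) : G) = ((a : Subgroup.centralizer ({z} : Set G)) : G) * c →
      ∀ d ∈ H, c * d * c⁻¹ ∈ H)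
    (hs : ∀ d ∈ H, d * d ∈ QG Q) (hc : ∀ d ∈ H, ∀ d' ∈ H, d * d' * d⁻¹ * d'⁻¹ ∈ QG Q) :
    ((v : Vec) = Spor.vecU → imgCo e H = ⊥) ∧
    ((v : Vec) = e8 none → imgCo e H ≤ signs.map (QuotientGroup.mk' (Subgroup.center ↥Co0))) := by
  haveI := finite_Co0 (Q := Q) e
  set A := (imgCo e H).comap (QuotientGroup.mk' (Subgroup.center ↥Co0)) with hA
  have hmem : ∀ k ∈ A, ∃ d : Subgroup.centralizer ({z} : Set G), (d : G) ∈ H ∧
      (QuotientGroup.mk k : Spor.Co1) = e (QuotientGroup.mk d) := fun k hk => by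
    obtain ⟨d, hd, he⟩ := hk
    exact ⟨d, hd, he.symm⟩
  have hfix : ∀ k ∈ A, Cong (ap k (v : Vec)) (v : Vec) := fun k hk => by
    obtain ⟨d, hd, he⟩ := hmem k hk
    refine D.fix_of_commutes ha (Subtype.ext (Subtype.ext ?_)) he
    rw [coe_conjQ', hx _ hd, mul_inv_cancel_right]
  have hnorm : ∀ k, Cong (ap k (v : Vec)) (v : Vec) → ∀ b ∈ A, k * b * k⁻¹ ∈ A := fun k hk b hb => by
    obtain ⟨d, hd, he⟩ := hmem b hb
    obtain ⟨h, hh, hca⟩ := D.commutes_of_fix ha hnc hk
    refine ⟨h * d * h⁻¹, hn h h.2 ?_ d hd, ?_⟩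
    · have := congrArg (fun q : Q => ((q : Subgroup.centralizer ({z} : Set G)) : G)) hca
      simp only [coe_conjQ'] at this
      calc (h : G) * ((a : Subgroup.centralizer ({z} : Set G)) : G)
          = (h : G) * ((a : Subgroup.centralizer ({z} : Set G)) : G) * (h : G)⁻¹ * h := by group
        _ = _ := by rw [this]
    · simp only [MonoidHom.comp_apply, map_mul, map_inv]
      show e (QuotientGroup.mk h) * e (QuotientGroup.mk d) * (e (QuotientGroup.mk h))⁻¹ = _
      rw [← hh, ← he]; rfl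
  have hcen : ∀ {d : Subgroup.centralizer ({z} : Set G)} {k : ↥Co0}, (d : G) ∈ QG Q →
      (QuotientGroup.mk k : Spor.Co1) = e (QuotientGroup.mk d) → k ∈ Subgroup.center ↥Co0 := fun {d k} hd he => by
    rw [← QuotientGroup.eq_one_iff, he, (QuotientGroup.eq_one_iff _).2 (mem_QG.1 hd).2, map_one]
  have hsqA : ∀ k ∈ A, k * k ∈ Subgroup.center ↥Co0 := fun k hk => by
    obtain ⟨d, hd, he⟩ := hmem k hk
    exact hcen (d := d * d) (hs _ hd) (by rw [QuotientGroup.mk_mul, QuotientGroup.mk_mul, map_mul, he])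
  have hcA : ∀ k ∈ A, ∀ l ∈ A, k * l * k⁻¹ * l⁻¹ ∈ Subgroup.center ↥Co0 := fun k hk l hl => by
    obtain ⟨d, hd, he⟩ := hmem k hk
    obtain ⟨d', hd', he'⟩ := hmem l hl
    exact hcen (d := d * d' * d⁻¹ * d'⁻¹) (hc _ hd _ hd') (by
      simp only [QuotientGroup.mk_mul, QuotientGroup.mk_inv, map_mul, map_inv, he, he'])
  have hle : ∀ S : Subgroup ↥Co0, A ≤ S → imgCo e H ≤ S.map (QuotientGroup.mk' (Subgroup.center ↥Co0)) := fun S hS y hy => by
    obtain ⟨k, rfl⟩ := QuotientGroup.mk'_surjective (Subgroup.center ↥Co0) y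
    exact ⟨k, hS hy, rfl⟩
  constructor
  · intro hv
    have hfu : ∀ k : ↥Co0, FixU k ↔ Cong (ap k (v : Vec)) (v : Vec) := fun k => by
      rw [hv]
      constructor
      · rintro (h | h) <;> rw [h]
        · exact Cong.refl _
        · exact (cong_neg vecU_mem).symm
      · intro h
        rcases cong_short (ap_mem k vecU_mem) vecU_mem h (by rw [ap_norm k vecU_mem, vecU_norm]; norm_num)
          (by rw [vecU_norm]; norm_num) with h' | h' | h'
        · exact Or.inl h'
        · exact Or.inr h'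
        · rw [vecU_norm] at h'; omega
    have := fixU_normal_le_center (Set.toFinite _) (fun k hk => (hfu k).2 (hfix k hk))
      (fun k hk b hb => hnorm k ((hfu k).1 hk) b hb) hsqA hcA
    refine eq_bot_iff.2 ((hle _ this).trans ?_)
    rw [le_bot_iff, Subgroup.map_eq_bot_iff, QuotientGroup.ker_mk']
  · intro hv
    refine hle _ (frame_normal_le_signs (fun k hk => ?_) (fun k hk b hb => hnorm k ?_ b hb) hcA)
    · have := hfix k hk; rwa [hv] at this
    · rw [hv]; exact hk

set_option maxHeartbeats 1000000 in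
/-- no involution outside `Q` has a centraliser in `Q` this small -/
theorem rank_contra [Finite G] {y a b : Subgroup.centralizer ({z} : Set G)} (hyy : y * y = 1)
    (hcard : Nat.card {q : Q // conjQ Q y q = q} ≤ 2 ^ 12) (hay : a * y = y * a) (hby : b * y = y * b)
    (hab : a * b = y * (b * a))
    (ha : ∀ q : Q, conjQ Q y q = q → conjQ Q a q * q⁻¹ ∈ Subgroup.center Q)
    (hb : ∀ q : Q, conjQ Q y q = q → conjQ Q b q * q⁻¹ ∈ Subgroup.center Q) : False := by
  classical
  letI : CommGroup (Q ⧸ Subgroup.center Q) :=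
    { (inferInstance : Group (Q ⧸ Subgroup.center Q)) with
      mul_comm := fun u w => by
        induction u using QuotientGroup.induction_on with | _ p =>
        induction w using QuotientGroup.induction_on with | _ q =>
        rw [← QuotientGroup.mk_mul, ← QuotientGroup.mk_mul, QuotientGroup.eq]
        have := D.com_mem_center q⁻¹ p⁻¹
        rwa [inv_inv, inv_inv, ← mul_inv_rev, mul_assoc (p * q)⁻¹] at this }
  let cj : Subgroup.centralizer ({z} : Set G) → (Q →* Q) := fun h =>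
    MonoidHom.mk' (conjQ Q h) fun p q => Subtype.ext (by simp only [coe_conjQ, Subgroup.coe_mul]; group)
  let cW : Subgroup.centralizer ({z} : Set G) → (Q ⧸ Subgroup.center Q →* Q ⧸ Subgroup.center Q) := fun h =>
    QuotientGroup.map _ _ (cj h) fun c hc => by
      show conjQ Q h c ∈ Subgroup.center Q
      rw [D.conjQ_center hc]; exact hc
  have cW_mk : ∀ h q, cW h (QuotientGroup.mk q) = QuotientGroup.mk (conjQ Q h q) := fun h q => rfl
  have cW_mul : ∀ h k w, cW (h * k) w = cW h (cW k w) := fun h k w => by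
    induction w using QuotientGroup.induction_on with | _ q =>
    rw [cW_mk, cW_mk, cW_mk]; congr 1
    refine Subtype.ext ?_
    simp only [coe_conjQ]; group
  let N : Subgroup.centralizer ({z} : Set G) → (Q ⧸ Subgroup.center Q →* Q ⧸ Subgroup.center Q) := fun h =>
    cW h * (MonoidHom.id _)⁻¹
  have N_apply : ∀ h w, N h w = cW h w * w⁻¹ := fun h w => rfl
  have hsq : ∀ w : Q ⧸ Subgroup.center Q, w * w = 1 := fun w => by
    induction w using QuotientGroup.induction_on with | _ q =>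
    exact (QuotientGroup.eq_one_iff _).2 (D.sq_mem_center q)
  have hinv : ∀ w : Q ⧸ Subgroup.center Q, w⁻¹ = w := fun w => inv_eq_of_mul_eq_one_left (hsq w)
  have hcomm : ∀ h k, h * k = k * h → ∀ w, N h (N k w) = N k (N h w) := fun h k hk w => by
    simp only [N_apply, map_mul, map_inv, ← cW_mul, hk, hinv]
    rw [mul_assoc, mul_assoc, mul_left_comm (cW h w)]
  set K := (N y).ker with hK
  have hrk : (N y).range ≤ K := by
    rintro _ ⟨w, rfl⟩
    rw [hK, MonoidHom.mem_ker]
    have e1 : cW y (cW y w) = w := by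
      rw [← cW_mul, hyy]
      induction w using QuotientGroup.induction_on with | _ q =>
      rw [cW_mk]; congr 1; exact Subtype.ext (by simp [coe_conjQ])
    simp only [N_apply, map_mul, map_inv, e1, hinv]
    rw [mul_comm w (cW y w), hsq]
  have hW : Nat.card (Q ⧸ Subgroup.center Q) = 2 ^ 24 := by
    have := Subgroup.card_eq_card_quotient_mul_card_subgroup (Subgroup.center Q)
    rw [D.core.2.2.2.1, D.core.2.2.1.2] at this
    norm_num at this ⊢; omega
  have hrankmul : Nat.card (N y).range * Nat.card K = 2 ^ 24 := by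
    have := card_map_mul (N y) ⊤
    rwa [← MonoidHom.range_eq_map, top_inf_eq, Subgroup.card_top, hW] at this
  have hK12 : 2 ^ 12 ≤ Nat.card K := by
    have := Nat.le_of_dvd Nat.card_pos (Subgroup.card_dvd_of_le hrk)
    by_contra hlt
    push Not at hlt
    have : Nat.card (N y).range * Nat.card K < 2 ^ 12 * 2 ^ 12 :=
      Nat.mul_lt_mul_of_le_of_lt (by omega) hlt (by norm_num)
    rw [hrankmul] at this
    norm_num at this
  -- preimage of the fixed space
  let Dp : Subgroup Q :=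
    { carrier := {q | conjQ Q y q = q}
      one_mem' := Subtype.ext (by simp [coe_conjQ])
      mul_mem' := fun {p q} hp hq => by
        show conjQ Q y (p * q) = p * q
        rw [show conjQ Q y (p * q) = cj y (p * q) from rfl, map_mul]
        exact congrArg₂ (· * ·) hp hq
      inv_mem' := fun {p} hp => by
        show conjQ Q y p⁻¹ = p⁻¹
        rw [show conjQ Q y p⁻¹ = cj y p⁻¹ from rfl, map_inv]
        exact congrArg (·⁻¹) hp }
  have hDp : Nat.card Dp ≤ 2 ^ 12 := hcard
  set T := K.comap (QuotientGroup.mk' (Subgroup.center Q)) with hT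
  have hT2 : Nat.card T = 2 * Nat.card K := by
    have h := card_map_mul (QuotientGroup.mk' (Subgroup.center Q)) T
    rw [hT, Subgroup.map_comap_eq_self_of_surjective (QuotientGroup.mk'_surjective _), QuotientGroup.ker_mk',
      inf_eq_right.2 (QuotientGroup.le_comap_mk' _ _), D.core.2.2.1.2] at h
    rw [← hT] at h; omega
  have hTle : Nat.card T ≤ 2 * Nat.card Dp := by
    let δ : T →* Subgroup.center Q := MonoidHom.mk'
      (fun t => ⟨conjQ Q y t * (t : Q)⁻¹, by
        have ht : cW y (QuotientGroup.mk (t : Q)) * (QuotientGroup.mk (t : Q))⁻¹ = 1 := t.2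
        rw [cW_mk, ← QuotientGroup.mk_inv, ← QuotientGroup.mk_mul] at ht
        exact (QuotientGroup.eq_one_iff _).1 ht⟩)
      (fun s t => Subtype.ext (by
        have ht : cW y (QuotientGroup.mk (t : Q)) * (QuotientGroup.mk (t : Q))⁻¹ = 1 := t.2
        rw [cW_mk, ← QuotientGroup.mk_inv, ← QuotientGroup.mk_mul] at ht
        have hc := Subgroup.mem_center_iff.1 ((QuotientGroup.eq_one_iff _).1 ht)
        show cj y (s * t : Q) * ((s : Q) * t)⁻¹ = cj y (s : Q) * (s : Q)⁻¹ * (cj y (t : Q) * (t : Q)⁻¹)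
        rw [map_mul, mul_inv_rev]
        calc cj y (s : Q) * cj y (t : Q) * ((t : Q)⁻¹ * (s : Q)⁻¹)
            = cj y (s : Q) * ((cj y (t : Q) * (t : Q)⁻¹) * (s : Q)⁻¹) := by group
          _ = cj y (s : Q) * ((s : Q)⁻¹ * (cj y (t : Q) * (t : Q)⁻¹)) :=
              congrArg (cj y (s : Q) * ·) (hc (s : Q)⁻¹).symm
          _ = _ := by group))
    have h := card_map_mul δ ⊤
    rw [Subgroup.card_top, top_inf_eq] at h
    have h1 : Nat.card ((⊤ : Subgroup T).map δ) ≤ 2 := by
      refine (Subgroup.card_le_card_group _).trans ?_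
      rw [D.core.2.2.1.2]
    have h2 : Nat.card δ.ker ≤ Nat.card Dp := by
      refine Nat.card_le_card_of_injective (fun t => ⟨((t : T) : Q), ?_⟩) (fun s t hst => ?_)
      · have := Subtype.ext_iff.1 (MonoidHom.mem_ker.1 t.2)
        exact mul_inv_eq_one.1 this
      · exact Subtype.ext (Subtype.ext (Subtype.ext_iff.1 hst : _))
    rw [← h]
    exact Nat.mul_le_mul h1 h2
  set Db := Dp.map (QuotientGroup.mk' (Subgroup.center Q)) with hDb
  have hDbK : Db ≤ K := by
    rintro _ ⟨q, hq, rfl⟩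
    rw [hK, MonoidHom.mem_ker, N_apply]
    show cW y (QuotientGroup.mk q) * _ = 1
    rw [cW_mk, show conjQ Q y q = q from hq]; exact mul_inv_cancel _
  have hDb2 : Nat.card Dp ≤ 2 * Nat.card Db := by
    have h := card_map_mul (QuotientGroup.mk' (Subgroup.center Q)) Dp
    rw [← hDb, QuotientGroup.ker_mk'] at h
    have : Nat.card (Dp ⊓ Subgroup.center Q : Subgroup Q) ≤ 2 :=
      (Nat.le_of_dvd Nat.card_pos (Subgroup.card_dvd_of_le inf_le_right)).trans D.core.2.2.1.2.le
    calc Nat.card Dp = Nat.card Db * Nat.card (Dp ⊓ Subgroup.center Q : Subgroup Q) := h.symm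
      _ ≤ Nat.card Db * 2 := Nat.mul_le_mul_left _ this
      _ = _ := mul_comm _ _
  have hKDb : Nat.card K ≤ 2 * Nat.card Db := by omega
  have hsmall : ∀ c, (∀ q : Q, conjQ Q y q = q → conjQ Q c q * q⁻¹ ∈ Subgroup.center Q) →
      Nat.card (K.map (N c)) ≤ 2 := fun c hc => by
    have hle : Db ≤ K ⊓ (N c).ker := le_inf hDbK (by
      rintro _ ⟨q, hq, rfl⟩
      rw [MonoidHom.mem_ker, N_apply]
      show cW c (QuotientGroup.mk q) * (QuotientGroup.mk q)⁻¹ = 1
      rw [cW_mk, ← QuotientGroup.mk_inv, ← QuotientGroup.mk_mul]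
      exact (QuotientGroup.eq_one_iff _).2 (hc q hq))
    have h1 := Nat.le_of_dvd Nat.card_pos (Subgroup.card_dvd_of_le hle)
    have h2 := card_map_mul (N c) K
    have h3 : Nat.card (K.map (N c)) * Nat.card Db ≤ 2 * Nat.card Db :=
      (Nat.mul_le_mul_left _ h1).trans (h2.le.trans hKDb)
    exact Nat.le_of_mul_le_mul_right h3 Nat.card_pos
  have hfour : ∀ c d, c * y = y * c → d * y = y * d →
      (∀ q : Q, conjQ Q y q = q → conjQ Q c q * q⁻¹ ∈ Subgroup.center Q) →
      (∀ q : Q, conjQ Q y q = q → conjQ Q d q * q⁻¹ ∈ Subgroup.center Q) →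
      Nat.card ((N d).range.map (N c)) ≤ 4 := fun c d hcy hdy hc hd => by
    refine (card_image_le_of_rank (N c) (N y) (N d).range).trans ?_
    have h1 : Nat.card (((N d).range ⊓ (N y).ker).map (N c)) ≤ 2 :=
      (Nat.le_of_dvd Nat.card_pos (Subgroup.card_dvd_of_le (Subgroup.map_mono inf_le_right))).trans (hsmall c hc)
    have h2 : (N d).range.map (N y) ≤ K.map (N d) := by
      rintro _ ⟨_, ⟨w, rfl⟩, rfl⟩
      exact ⟨N y w, hrk ⟨w, rfl⟩, hcomm d y hdy w⟩
    have h3 := (Nat.le_of_dvd Nat.card_pos (Subgroup.card_dvd_of_le h2)).trans (hsmall d hd)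
    exact Nat.mul_le_mul h1 h3
  set A := (N b).range.map (N a) with hA
  set B := (N a).range.map (N b) with hB
  have hcover : ((N y).range : Set (Q ⧸ Subgroup.center Q)) ⊆ (fun p : A × B => (p.1 : Q ⧸ Subgroup.center Q) * p.2) '' Set.univ := by
    rintro _ ⟨w, rfl⟩
    obtain ⟨u, hu⟩ : ∃ u, cW (b * a) u = w := ⟨cW (b * a)⁻¹ w, by
      rw [← cW_mul, mul_inv_cancel]
      induction w using QuotientGroup.induction_on with | _ q =>
      rw [cW_mk]; congr 1; exact Subtype.ext (by simp [coe_conjQ])⟩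
    refine ⟨(⟨N a (N b u), _, ⟨u, rfl⟩, rfl⟩, ⟨N b (N a u), _, ⟨u, rfl⟩, rfl⟩), trivial, ?_⟩
    show N a (N b u) * N b (N a u) = N y w
    rw [N_apply y, ← hu, ← cW_mul y, ← hab]
    simp only [N_apply, map_mul, map_inv, ← cW_mul, hinv]
    calc cW (a * b) u * cW a u * (cW b u * u) * (cW (b * a) u * cW b u * (cW a u * u))
        = cW (a * b) u * cW (b * a) u * ((cW a u * cW a u) * (cW b u * cW b u) * (u * u)) := by
          ac_rfl
      _ = _ := by rw [hsq (cW a u), hsq (cW b u), hsq u, mul_one, mul_one, mul_one]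
  have hbig : Nat.card (N y).range ≤ 16 := by
    have h1 := Set.ncard_le_ncard hcover (Set.toFinite _)
    have h2 := Set.ncard_image_le (f := fun p : A × B => (p.1 : Q ⧸ Subgroup.center Q) * p.2) (s := Set.univ) (Set.toFinite _)
    rw [Set.ncard_univ, Nat.card_prod] at h2
    rw [← Nat.card_coe_set_eq] at h1
    simp only [SetLike.coe_sort_coe] at h1
    exact h1.trans (h2.trans (Nat.mul_le_mul (hfour a b hay hby ha hb) (hfour b a hby hay hb ha)))
  have hK13 : Nat.card K ≤ 2 ^ 12 := by omega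
  have := Nat.mul_le_mul hbig hK13
  rw [hrankmul] at this
  norm_num at this

/-- an abelian subgroup of `Q` has order at most 2^13 -/
theorem abelian_card_le [Finite G] {A : Subgroup G} (hA : A ≤ QG Q) (hc : ∀ a ∈ A, ∀ b ∈ A, a * b = b * a) :
    Nat.card A ≤ 2 ^ 13 := by
  let f : Q →* G := (Subgroup.centralizer ({z} : Set G)).subtype.comp Q.subtype
  have hf : Function.Injective f := Subtype.val_injective.comp Subtype.val_injective
  have hmap : (A.comap f).map f = A := Subgroup.map_comap_eq_self fun a ha => by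
    obtain ⟨q, rfl⟩ := exists_of_mem_QG (hA ha); exact ⟨q, rfl⟩
  have hcard : Nat.card A = Nat.card (A.comap f) := by
    conv_lhs => rw [← hmap]
    exact Subgroup.card_map_of_injective hf
  have hle : A.comap f ≤ Subgroup.centralizer ((A.comap f : Subgroup Q) : Set Q) := fun a ha =>
    Subgroup.mem_centralizer_iff.2 fun b hb => hf (by rw [map_mul, map_mul]; exact hc _ hb _ ha)
  have h1 := Nat.le_of_dvd Nat.card_pos (Subgroup.card_dvd_of_le hle)
  have h2 := card_mul_centralizer_le D.core.2.2.1 (A.comap f)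
  rw [D.core.2.2.2.1] at h2
  rw [hcard]
  by_contra hlt
  push Not at hlt
  have := (Nat.mul_lt_mul'' hlt (hlt.trans_le h1)).trans_le h2
  norm_num at this

/-- the local structure at a second conjugate of `z` in standard position -/
theorem main [Finite G] {v : ↥leechLattice} {a : Q} (hv : (v : Vec) = Spor.vecU ∨ (v : Vec) = e8 none)
    (ha : ψ v = QuotientGroup.mk a) {g : G} (hg : g * z * g⁻¹ = ((a : Subgroup.centralizer ({z} : Set G)) : G))
    (hnc : a ∉ Subgroup.center Q) :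
    (v : Vec) = e8 none ∧ z ∈ RG Q g ∧ Nat.card (QG Q ⊓ RG Q g : Subgroup G) = 2 ^ 13 ∧
      imgCo e (RG Q g ⊓ Subgroup.centralizer ({z} : Set G)) = signs.map (QuotientGroup.mk' (Subgroup.center ↥Co0)) := by
  set x : G := ((a : Subgroup.centralizer ({z} : Set G)) : G) with hxdef
  have hxQ : x ∈ QG Q := coe_mem_QG a
  have hx1 : x ≠ 1 := fun h => hnc (by
    have : a = 1 := Subtype.ext (Subtype.ext h)
    rw [this]; exact one_mem _)
  have hxz : x ≠ z := fun h => hnc (D.mem_center_iff'.2 (Or.inr (Subtype.ext h)))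
  have hxC : x * z = z * x := mem_C_iff.1 (QG_le hxQ)
  set Dg := RG Q g ⊓ Subgroup.centralizer ({z} : Set G) with hDg
  have hDx : ∀ d ∈ Dg, d * x = x * d := fun d hd => by
    have := Subgroup.mem_centralizer_singleton_iff.1 (RG_le hd.1)
    rwa [hg] at this
  have hbound := D.imgCo_bound ha hnc (H := Dg) inf_le_right hDx
    (fun c hc hcx d hd => ⟨conj_memRG (by rw [hg]; exact hcx) hd.1, Subgroup.mul_mem _ (Subgroup.mul_mem _ hc hd.2) (Subgroup.inv_mem _ hc)⟩)
    (fun d hd => by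
      rcases D.sq_RG hd.1 with h | h <;> rw [h]
      exacts [one_mem _, hg ▸ hxQ])
    (fun d hd d' hd' => by
      rcases D.com_RG hd.1 hd'.1 with h | h <;> rw [h]
      exacts [one_mem _, hg ▸ hxQ])
  have himg : Nat.card (imgCo e Dg) ≤ 2 ^ 11 := by
    haveI := finite_Co0 (Q := Q) e
    rcases hv with h | h
    · rw [hbound.1 h, Subgroup.card_bot]; norm_num
    · exact (Nat.le_of_dvd Nat.card_pos (Subgroup.card_dvd_of_le (hbound.2 h))).trans signs_card_mod_center.le
  have hsplit := card_eq_imgCo (e := e) (Q := Q) (H := Dg) inf_le_right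
  -- transport to the centraliser of `z`
  have hy : g⁻¹ * z * g ∈ Subgroup.centralizer ({z} : Set G) := conj_mem_C_iff.2 (by rw [hg]; exact hxC.symm)
  set y : Subgroup.centralizer ({z} : Set G) := ⟨g⁻¹ * z * g, hy⟩ with hydef
  let f : Q →* G := (MulAut.conj g).toMonoidHom.comp ((Subgroup.centralizer ({z} : Set G)).subtype.comp Q.subtype)
  have hf : Function.Injective f := (MulAut.conj g).injective.comp (Subtype.val_injective.comp Subtype.val_injective)
  have hfix : ∀ q : Q, conjQ Q y q = q ↔ f q * z = z * f q := fun q => by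
    rw [Subtype.ext_iff, Subtype.ext_iff, coe_conjQ', mul_inv_eq_iff_eq_mul, eq_comm]
    show _ ↔ g * ((q : Subgroup.centralizer ({z} : Set G)) : G) * g⁻¹ * z = z * (g * ((q : Subgroup.centralizer ({z} : Set G)) : G) * g⁻¹)
    constructor <;> intro h
    · calc g * _ * g⁻¹ * z = g * (((q : Subgroup.centralizer ({z} : Set G)) : G) * (g⁻¹ * z * g)) * g⁻¹ := by group
        _ = _ := by rw [show (y : G) = g⁻¹ * z * g from rfl] at h; rw [h]; group
    · show ((q : Subgroup.centralizer ({z} : Set G)) : G) * (g⁻¹ * z * g) = g⁻¹ * z * g * _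
      calc _ = g⁻¹ * (g * ((q : Subgroup.centralizer ({z} : Set G)) : G) * g⁻¹ * z) * g := by group
        _ = _ := by rw [h]; group
  have hDcard : Nat.card {q : Q // conjQ Q y q = q} = Nat.card Dg := by
    refine Nat.card_congr (Equiv.ofBijective (fun q => ⟨f q.1, Subgroup.mem_map_of_mem _ (coe_mem_QG q.1),
      mem_C_iff.2 ((hfix _).1 q.2)⟩) ⟨fun p q h => Subtype.ext (hf (congrArg Subtype.val h)), fun d => ?_⟩)
    obtain ⟨q, hq⟩ := exists_of_mem_QG (mem_RG.1 d.2.1)
    have hfq : f q = (d : G) := by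
      show g * ((q : Subgroup.centralizer ({z} : Set G)) : G) * g⁻¹ = _
      rw [hq]; group
    exact ⟨⟨q, (hfix q).2 (by rw [hfq]; exact mem_C_iff.1 d.2.2)⟩, Subtype.ext hfq⟩
  by_cases hzR : z ∈ RG Q g
  · obtain ⟨yq, hyq⟩ := exists_of_mem_QG (mem_RG.1 hzR)
    have hyq' : (yq : Subgroup.centralizer ({z} : Set G)) = y := Subtype.ext hyq
    have hync : yq ∉ Subgroup.center Q := fun h => by
      rcases D.center_val h with h' | h' <;> rw [hyq] at h'
      · exact D.z_ne (by rw [show z = g * (g⁻¹ * z * g) * g⁻¹ by group, h']; group)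
      · exact hxz (hg.symm.trans (calc g * z * g⁻¹ = g * (g⁻¹ * z * g) * g⁻¹ := by rw [h']
          _ = z := by group))
    have hc24 : Nat.card Dg = 2 ^ 24 := by
      rw [← hDcard, ← D.card_centralizer_single hync]
      refine Nat.card_congr (Equiv.subtypeEquivRight fun q => ?_)
      rw [Subgroup.mem_centralizer_singleton_iff]
      constructor
      · intro h
        refine Subtype.ext ?_
        have h' := congrArg Subtype.val h
        rw [coe_conjQ, mul_inv_eq_iff_eq_mul] at h'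
        rw [Subgroup.coe_mul, Subgroup.coe_mul, hyq']
        exact h'.symm
      · intro h
        refine Subtype.ext ?_
        have h' := congrArg Subtype.val h
        rw [Subgroup.coe_mul, Subgroup.coe_mul, hyq'] at h'
        rw [coe_conjQ, mul_inv_eq_iff_eq_mul]
        exact h'.symm
    have hI : Dg ⊓ QG Q = QG Q ⊓ RG Q g := le_antisymm (le_inf inf_le_right (inf_le_left.trans inf_le_left))
      (le_inf (le_inf inf_le_right (inf_le_left.trans QG_le)) inf_le_left)
    have hI13 : Nat.card (QG Q ⊓ RG Q g : Subgroup G) ≤ 2 ^ 13 := D.abelian_card_le inf_le_left fun u hu w hw => by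
      have h1 := D.com_QG hu.1 hw.1
      have h2 := D.com_RG hu.2 hw.2
      have : u * w * u⁻¹ * w⁻¹ = 1 := by
        rcases h1 with h | h
        · exact h
        rcases h2 with h' | h'
        · exact h'
        · exact absurd (hg.symm.trans (h'.symm.trans h)) hxz
      rwa [mul_inv_eq_one, mul_inv_eq_iff_eq_mul] at this
    rw [hI, hc24] at hsplit
    have hve : (v : Vec) = e8 none := hv.resolve_left fun h => by
      rw [hbound.1 h, Subgroup.card_bot, one_mul] at hsplit
      omega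
    have h13 : Nat.card (QG Q ⊓ RG Q g : Subgroup G) = 2 ^ 13 := by
      by_contra hne
      have : Nat.card (imgCo e Dg) * Nat.card (QG Q ⊓ RG Q g : Subgroup G) < 2 ^ 11 * 2 ^ 13 :=
        Nat.mul_lt_mul_of_le_of_lt himg (lt_of_le_of_ne hI13 hne) (by norm_num)
      rw [hsplit] at this
      norm_num at this
    refine ⟨hve, hzR, h13, ?_⟩
    haveI := finite_Co0 (Q := Q) e
    refine Subgroup.eq_of_le_of_card_ge (hbound.2 hve) ?_
    rw [h13] at hsplit
    rw [signs_card_mod_center]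
    omega
  exfalso
  have hzC : z ∈ Subgroup.centralizer ({z} : Set G) := Data.zC_mem
  -- the fixed points inside `Q`
  have hDQ : ∀ d ∈ Dg, d ∈ QG Q → d = 1 ∨ d = x := fun d hd hdQ => by
    obtain ⟨b, rfl⟩ := exists_of_mem_QG hdQ
    have hb : b ∈ Subgroup.centralizer ((Subgroup.centralizer ({a} : Set Q) : Subgroup Q) : Set Q) := by
      refine Subgroup.mem_centralizer_iff.2 fun p hp => ?_
      have hpx : ((p : Subgroup.centralizer ({z} : Set G)) : G) * x = x * ((p : Subgroup.centralizer ({z} : Set G)) : G) :=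
        congrArg (fun q : Q => ((q : Subgroup.centralizer ({z} : Set G)) : G)) (Subgroup.mem_centralizer_singleton_iff.1 hp)
      have hR : ((p : Subgroup.centralizer ({z} : Set G)) : G) * b * ((p : Subgroup.centralizer ({z} : Set G)) : G)⁻¹ * ((b : Subgroup.centralizer ({z} : Set G)) : G)⁻¹ ∈ RG Q g :=
        mul_mem (conj_memRG (by rw [hg]; exact hpx) hd.1) (inv_mem hd.1)
      rcases D.com_QG (coe_mem_QG p) (coe_mem_QG b) with h | h
      · rw [mul_inv_eq_one, mul_inv_eq_iff_eq_mul] at h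
        exact Subtype.ext (Subtype.ext h)
      · rw [h] at hR; exact absurd hR hzR
    rcases D.double_centralizer hnc hb with h | h
    · rcases D.center_val h with h' | h'
      · exact Or.inl h'
      · have hbR := hd.1; rw [h'] at hbR; exact absurd hbR hzR
    · rcases D.center_val h with h' | h' <;> simp only [Subgroup.coe_mul, Subgroup.coe_inv] at h'
      · exact Or.inr (inv_mul_eq_one.1 h').symm
      · exfalso; apply hzR
        have hm := mul_mem (inv_mem (show x ∈ RG Q g from hg ▸ D.x_memRG)) hd.1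
        rw [h'] at hm
        exact hm
  have hcardDQ : Nat.card (Dg ⊓ QG Q : Subgroup G) ≤ 2 := by
    refine le_trans ?_ (Set.ncard_pair hx1.symm).le
    rw [show Nat.card (Dg ⊓ QG Q : Subgroup G) = Set.ncard ((Dg ⊓ QG Q : Subgroup G) : Set G) from (Nat.card_coe_set_eq _)]
    exact Set.ncard_le_ncard (fun d hd => hDQ d hd.1 hd.2) (Set.toFinite _)
  obtain ⟨p, q, hpC, hqC, hpq⟩ : ∃ p q : Q, p * a = a * p ∧ q * a = a * q ∧ p * q ≠ q * p := by
    by_contra hcon
    push Not at hcon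
    have hle : Subgroup.centralizer ({a} : Set Q) ≤ Subgroup.centralizer ((Subgroup.centralizer ({a} : Set Q) : Subgroup Q) : Set Q) :=
      fun p hp => Subgroup.mem_centralizer_iff.2 fun q hq =>
        hcon q p (Subgroup.mem_centralizer_singleton_iff.1 hq) (Subgroup.mem_centralizer_singleton_iff.1 hp)
    have h1 := Nat.le_of_dvd Nat.card_pos (Subgroup.card_dvd_of_le hle)
    have h2 := card_mul_centralizer_le D.core.2.2.1 (Subgroup.centralizer ({a} : Set Q))
    rw [D.card_centralizer_single hnc, D.core.2.2.2.1] at h2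
    rw [D.card_centralizer_single hnc] at h1
    norm_num at h1 h2
    omega
  have hkey : ∀ r : Q, r * a = a * r → ∃ hr : g⁻¹ * ((r : Subgroup.centralizer ({z} : Set G)) : G) * g ∈ Subgroup.centralizer ({z} : Set G),
      ⟨_, hr⟩ * y = y * ⟨_, hr⟩ ∧ ∀ t : Q, conjQ Q y t = t → conjQ Q ⟨_, hr⟩ t * t⁻¹ ∈ Subgroup.center Q := fun r hr => by
    set R' : G := ((r : Subgroup.centralizer ({z} : Set G)) : G) with hR'
    have hrx : R' * x = x * R' := congrArg (fun q : Q => ((q : Subgroup.centralizer ({z} : Set G)) : G)) hr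
    have hrz : R' * z = z * R' := mem_C_iff.1 (QG_le (coe_mem_QG r))
    have hrC : g⁻¹ * R' * g ∈ Subgroup.centralizer ({z} : Set G) := conj_mem_C_iff.2 (by rw [hg]; exact hrx)
    refine ⟨hrC, Subtype.ext ?_, fun t ht => ?_⟩
    · show g⁻¹ * R' * g * (g⁻¹ * z * g) = g⁻¹ * z * g * (g⁻¹ * R' * g)
      calc _ = g⁻¹ * (R' * z) * g := by group
        _ = _ := by rw [hrz]; group
    have hd : f t ∈ Dg := ⟨Subgroup.mem_map_of_mem _ (coe_mem_QG t), mem_C_iff.2 ((hfix t).1 ht)⟩
    have hRC : R' ∈ Subgroup.centralizer ({z} : Set G) := mem_C_iff.2 hrz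
    have h1 : R' * f t * R'⁻¹ * (f t)⁻¹ ∈ Dg := mul_mem
      ⟨conj_memRG (by rw [hg]; exact hrx) hd.1, Subgroup.mul_mem _ (Subgroup.mul_mem _ hRC hd.2) (Subgroup.inv_mem _ hRC)⟩ (inv_mem hd)
    have h2 : R' * f t * R'⁻¹ * (f t)⁻¹ ∈ QG Q := by
      rw [show R' * f t * R'⁻¹ * (f t)⁻¹ = R' * (f t * R'⁻¹ * (f t)⁻¹) by group]
      exact mul_mem (coe_mem_QG r) (Data.conj_memQG hd.2 (inv_mem (coe_mem_QG r)))
    have e' : ((conjQ Q ⟨_, hrC⟩ t * t⁻¹ : Q) : Subgroup.centralizer ({z} : Set G)) =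
        (conjQ Q ⟨_, hrC⟩ t : Subgroup.centralizer ({z} : Set G)) * (t : Subgroup.centralizer ({z} : Set G))⁻¹ := rfl
    have e : (((conjQ Q ⟨_, hrC⟩ t * t⁻¹ : Q) : Subgroup.centralizer ({z} : Set G)) : G) =
        g⁻¹ * (R' * f t * R'⁻¹ * (f t)⁻¹) * g := by
      rw [e', Subgroup.coe_mul, coe_conjQ', Subgroup.coe_inv]
      rw [show f t = g * ((t : Subgroup.centralizer ({z} : Set G)) : G) * g⁻¹ from rfl]
      show g⁻¹ * R' * g * _ * (g⁻¹ * R' * g)⁻¹ * _ = _
      group
    rcases hDQ _ h1 h2 with h | h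
    · refine D.mem_center_iff'.2 (Or.inl (Subtype.ext (Subtype.ext ?_)))
      rw [e, h]; simp
    · refine D.mem_center_iff'.2 (Or.inr (Subtype.ext ?_))
      rw [e, h, ← hg]
      show g⁻¹ * (g * z * g⁻¹) * g = z
      group
  obtain ⟨hp, hpy, hpf⟩ := hkey p hpC
  obtain ⟨hq, hqy, hqf⟩ := hkey q hqC
  refine D.rank_contra (y := y) (a := ⟨_, hp⟩) (b := ⟨_, hq⟩) (Subtype.ext ?_) ?_ hpy hqy (Subtype.ext ?_) hpf hqf
  · show g⁻¹ * z * g * (g⁻¹ * z * g) = 1
    calc _ = g⁻¹ * (z * z) * g := by group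
      _ = _ := by rw [D.z_sq]; group
  · rw [hDcard, ← hsplit]
    exact (Nat.mul_le_mul himg hcardDQ).trans (by norm_num)
  · show g⁻¹ * _ * g * (g⁻¹ * _ * g) = g⁻¹ * z * g * (g⁻¹ * _ * g * (g⁻¹ * _ * g))
    rcases D.com_QG (coe_mem_QG p) (coe_mem_QG q) with h | h
    · rw [mul_inv_eq_one, mul_inv_eq_iff_eq_mul] at h
      exact absurd (Subtype.ext (Subtype.ext h)) hpq
    · rw [mul_inv_eq_iff_eq_mul, mul_inv_eq_iff_eq_mul, mul_assoc] at h
      calc _ = g⁻¹ * (((p : Subgroup.centralizer ({z} : Set G)) : G) * ((q : Subgroup.centralizer ({z} : Set G)) : G)) * g := by group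
        _ = _ := by rw [h]; group

end Data

end Cfsg.Agent.Monster
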