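import Cfsg.Agent.Lib.Monster.Main

set_option autoImplicit false

namespace Cfsg.Agent.Monster
open Cfsg Leech Subgroup

variable {G : Type*} [Group G] {z : G} {Q : Subgroup (Subgroup.centralizer ({z} : Set G))} [Q.Normal]
  {e : (Subgroup.centralizer ({z} : Set G)) ⧸ Q ≃* Spor.Co1} {ψ : leechLattice → Q ⧸ Subgroup.center Q}

/-- the standard long vector as a lattice element -/
def e8L : ↥leechLattice := ⟨e8 none, e8_mem none⟩

namespace Data

variable (D : Data Q e ψ)
include D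

theorem noncentral_of_ne {a : Q} (h1 : ((a : Subgroup.centralizer ({z} : Set G)) : G) ≠ 1)
    (h2 : ((a : Subgroup.centralizer ({z} : Set G)) : G) ≠ z) : a ∉ Subgroup.center Q := fun h => by
  rcases D.center_val h with h' | h'
  exacts [h1 h', h2 h']

omit D in
theorem conj_ne_one {g : G} (hz : z ≠ 1) : g * z * g⁻¹ ≠ 1 := fun h => hz (by
  calc z = g⁻¹ * (g * z * g⁻¹) * g := by group
    _ = 1 := by rw [h]; group)

theorem noncentral_of_conj {a : Q} {g : G} (hg : g * z * g⁻¹ = ((a : Subgroup.centralizer ({z} : Set G)) : G))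
    (h2 : ((a : Subgroup.centralizer ({z} : Set G)) : G) ≠ z) : a ∉ Subgroup.center Q :=
  D.noncentral_of_ne (hg ▸ conj_ne_one D.z_ne) h2

/-- a noncentral involution is conjugate under the centraliser to a standard one -/
theorem standardize {a : Q} (hnc : a ∉ Subgroup.center Q) (h2 : a * a = 1) :
    ∃ (h : Subgroup.centralizer ({z} : Set G)) (v : ↥leechLattice),
      ((v : Vec) = Spor.vecU ∨ (v : Vec) = e8 none) ∧ ψ v = QuotientGroup.mk (conjQ Q h a) := by
  obtain ⟨w, hw⟩ := D.exists_rep a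
  have main : ∀ v : ↥leechLattice, ClEq (w : Vec) (v : Vec) → ∃ h : Subgroup.centralizer ({z} : Set G),
      ψ v = QuotientGroup.mk (conjQ Q h a) := fun v hv => by
    obtain ⟨g, hg⟩ := hv
    obtain ⟨h, hh⟩ := exists_h (e := e) g
    refine ⟨h, ?_⟩
    rw [← D.act hh hw, D.eq_iff, ← ap_coe]
    exact hg.symm
  rcases class_normal w.2 ((D.sq_one_iff hw).1 h2) ((D.noncentral_iff hw).1 hnc) with hc | hc
  · obtain ⟨h, hh⟩ := main ⟨Spor.vecU, vecU_mem⟩ hc
    exact ⟨h, _, Or.inl rfl, hh⟩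
  · obtain ⟨h, hh⟩ := main e8L hc
    exact ⟨h, _, Or.inr rfl, hh⟩

theorem sq_one_of_conj {a : Q} {g : G} (hg : g * z * g⁻¹ = ((a : Subgroup.centralizer ({z} : Set G)) : G)) :
    a * a = 1 := Subtype.ext (Subtype.ext (by
  show ((a : Subgroup.centralizer ({z} : Set G)) : G) * (a : Subgroup.centralizer ({z} : Set G)) = 1
  rw [← hg]
  calc g * z * g⁻¹ * (g * z * g⁻¹) = g * (z * z) * g⁻¹ := by group
    _ = 1 := by rw [D.z_sq]; group))

/-- second conjugates of `z` are long -/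
theorem conj_class [Finite G] {a : Q} {g : G} (hg : g * z * g⁻¹ = ((a : Subgroup.centralizer ({z} : Set G)) : G))
    (hne : ((a : Subgroup.centralizer ({z} : Set G)) : G) ≠ z) :
    ∃ h : Subgroup.centralizer ({z} : Set G), ψ e8L = QuotientGroup.mk (conjQ Q h a) ∧
      z ∈ RG Q ((h : G) * g) ∧ Nat.card (QG Q ⊓ RG Q ((h : G) * g) : Subgroup G) = 2 ^ 13 ∧
      imgCo e (RG Q ((h : G) * g) ⊓ Subgroup.centralizer ({z} : Set G)) =
        signs.map (QuotientGroup.mk' (Subgroup.center ↥Co0)) := by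
  obtain ⟨h, v, hv, hh⟩ := D.standardize (D.noncentral_of_conj hg hne) (D.sq_one_of_conj hg)
  have hg' : (h : G) * g * z * ((h : G) * g)⁻¹ = ((conjQ Q h a : Subgroup.centralizer ({z} : Set G)) : G) := by
    rw [coe_conjQ', ← hg]; group
  have hnc' : conjQ Q h a ∉ Subgroup.center Q := D.noncentral_of_conj hg' fun hz => hne (by
    rw [coe_conjQ'] at hz
    calc ((a : Subgroup.centralizer ({z} : Set G)) : G)
        = (h : G)⁻¹ * ((h : G) * (a : Subgroup.centralizer ({z} : Set G)) * (h : G)⁻¹) * h := by group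
      _ = (h : G)⁻¹ * (z * h) := by rw [hz]; group
      _ = z := by rw [← mem_C_iff.1 h.2]; group)
  obtain ⟨hve, hrest⟩ := D.main hv hh hg' hnc'
  have : v = e8L := Subtype.ext hve
  exact ⟨h, this ▸ hh, hrest⟩

theorem conj_iff [Finite G] (x : Q) : (IsConj z ((x : Subgroup.centralizer ({z} : Set G)) : G) ∧
    ((x : Subgroup.centralizer ({z} : Set G)) : G) ≠ z) ↔ ∃ v : leechLattice, sqNorm (v : Vec) = 64 ∧ ψ v = QuotientGroup.mk x := by
  constructor
  · rintro ⟨hc, hne⟩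
    obtain ⟨g, hg⟩ := isConj_iff.1 hc
    obtain ⟨h, hh, -⟩ := D.conj_class hg hne
    obtain ⟨k, hk⟩ := exists_g (e := e) h⁻¹
    refine ⟨k • e8L, ?_, ?_⟩
    · rw [co0_smul_norm]; exact e8_norm none
    · rw [D.act hk hh]; congr 1; refine Subtype.ext ?_; simp only [coe_conjQ]; group
  · rintro ⟨v, hv, hx⟩
    obtain ⟨g₀, ⟨hq₀, hmem⟩, hne₀⟩ := D.core.2.2.2.2
    obtain ⟨h, hh, -⟩ := D.conj_class (a := ⟨_, hmem⟩) (g := g₀) rfl hne₀
    have hcl : ClEq (v : Vec) ((e8L : ↥leechLattice) : Vec) := ClEq.of_coEq (coEq_cross v.2 hv)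
    have hnc : x ∉ Subgroup.center Q := (D.noncentral_iff hx).2 fun hc => by
      rcases cong_short v.2 (zero_mem _) hc hv.le (by simp [sqNorm]) with h' | h' | h'
      · rw [h'] at hv; simp [sqNorm] at hv
      · rw [h'] at hv; simp [sqNorm] at hv
      · simp [sqNorm] at h'
    obtain ⟨k, hk⟩ := D.conj_of_clEq hx hh hnc hcl
    refine ⟨isConj_iff.2 ⟨(k : G)⁻¹ * (h : G) * g₀, ?_⟩, fun hxz => hnc (D.mem_center_iff'.2 (Or.inr (Subtype.ext hxz)))⟩
    have e := congrArg (fun q : Q => ((q : Subgroup.centralizer ({z} : Set G)) : G)) hk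
    simp only [coe_conjQ'] at e
    calc _ = (k : G)⁻¹ * ((h : G) * (g₀ * z * g₀⁻¹) * (h : G)⁻¹) * k := by group
      _ = (k : G)⁻¹ * ((k : G) * ((x : Subgroup.centralizer ({z} : Set G)) : G) * (k : G)⁻¹) * k := by rw [e]
      _ = _ := by group

theorem conj_transitive [Finite G] {a b : Q} (ha : IsConj z ((a : Subgroup.centralizer ({z} : Set G)) : G))
    (hb : IsConj z ((b : Subgroup.centralizer ({z} : Set G)) : G))
    (ha1 : ((a : Subgroup.centralizer ({z} : Set G)) : G) ≠ z) (hb1 : ((b : Subgroup.centralizer ({z} : Set G)) : G) ≠ z) :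
    ∃ h : Subgroup.centralizer ({z} : Set G), conjQ Q h a = b := by
  obtain ⟨v, hv, hva⟩ := (D.conj_iff a).1 ⟨ha, ha1⟩
  obtain ⟨w, hw, hwb⟩ := (D.conj_iff b).1 ⟨hb, hb1⟩
  obtain ⟨g, hg⟩ := isConj_iff.1 ha
  exact D.conj_of_clEq hva hwb (D.noncentral_of_conj hg ha1) (ClEq.of_coEq (coEq_of_norm64 v.2 w.2 hv hw))

/-- noncentral involutions of `Q` not conjugate to `z` are short -/
theorem nonconj_class [Finite G] {a : Q} (h2 : orderOf ((a : Subgroup.centralizer ({z} : Set G)) : G) = 2)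
    (hn : ¬ IsConj z ((a : Subgroup.centralizer ({z} : Set G)) : G)) :
    a ∉ Subgroup.center Q ∧ ∃ h : Subgroup.centralizer ({z} : Set G),
      ψ ⟨Spor.vecU, vecU_mem⟩ = QuotientGroup.mk (conjQ Q h a) := by
  have hnc : a ∉ Subgroup.center Q := D.noncentral_of_ne
    (fun h => by rw [h, orderOf_one] at h2; omega) (fun h => hn (by rw [h]))
  have hsq : a * a = 1 := Subtype.ext (Subtype.ext (by
    have := pow_orderOf_eq_one ((a : Subgroup.centralizer ({z} : Set G)) : G)
    rwa [h2, pow_two] at this))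
  obtain ⟨h, v, hv, hh⟩ := D.standardize hnc hsq
  refine ⟨hnc, h, ?_⟩
  rcases hv with hv | hv
  · exact (show v = ⟨Spor.vecU, vecU_mem⟩ from Subtype.ext hv) ▸ hh
  · exfalso
    have hc := ((D.conj_iff (conjQ Q h a)).2 ⟨v, by rw [hv, e8_norm], hh⟩).1
    obtain ⟨g, hg⟩ := isConj_iff.1 hc
    refine hn (isConj_iff.2 ⟨(h : G)⁻¹ * g, ?_⟩)
    calc _ = (h : G)⁻¹ * (g * z * g⁻¹) * h := by group
      _ = _ := by rw [hg, coe_conjQ']; group

theorem nonconj_transitive [Finite G] {a b : Q} (ha2 : orderOf ((a : Subgroup.centralizer ({z} : Set G)) : G) = 2)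
    (hb2 : orderOf ((b : Subgroup.centralizer ({z} : Set G)) : G) = 2)
    (ha : ¬ IsConj z ((a : Subgroup.centralizer ({z} : Set G)) : G))
    (hb : ¬ IsConj z ((b : Subgroup.centralizer ({z} : Set G)) : G)) :
    ∃ h : Subgroup.centralizer ({z} : Set G), conjQ Q h a = b := by
  obtain ⟨hanc, h, hh⟩ := D.nonconj_class ha2 ha
  obtain ⟨-, k, hk⟩ := D.nonconj_class hb2 hb
  have hnc' : conjQ Q h a ∉ Subgroup.center Q := (D.noncentral_iff hh).2 fun hc => by
    rcases cong_short vecU_mem (zero_mem _) hc (by rw [vecU_norm]; norm_num) (by simp [sqNorm]) with h' | h' | h'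
    · have := vecU_norm; rw [h'] at this; simp [sqNorm] at this
    · have := vecU_norm; rw [h'] at this; simp [sqNorm] at this
    · simp [sqNorm] at h'
  obtain ⟨l, hl⟩ := D.conj_of_clEq hh hk hnc' (ClEq.of_cong (Cong.refl _))
  refine ⟨k⁻¹ * l * h, ?_⟩
  have e := congrArg (Subtype.val : Q → _) hl
  simp only [coe_conjQ] at e
  refine Subtype.ext ?_
  rw [coe_conjQ]
  calc _ = k⁻¹ * (l * (h * a * h⁻¹) * l⁻¹) * k := by group
    _ = _ := by rw [e]; group

omit D in
theorem RG_conj {h : G} (hh : h ∈ Subgroup.centralizer ({z} : Set G)) (g a : G) :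
    a ∈ RG Q g ↔ h * a * h⁻¹ ∈ RG Q (h * g) := by
  rw [mem_RG, mem_RG, show (h * g)⁻¹ * (h * a * h⁻¹) * (h * g) = g⁻¹ * a * g by group]

theorem inter_card [Finite G] {a : Q} {g : G} (hg : g * z * g⁻¹ = ((a : Subgroup.centralizer ({z} : Set G)) : G))
    (hne : ((a : Subgroup.centralizer ({z} : Set G)) : G) ≠ z) :
    Nat.card (QG Q ⊓ RG Q g : Subgroup G) = 2 ^ 13 := by
  obtain ⟨h, -, -, hcard, -⟩ := D.conj_class hg hne
  rw [← hcard]
  refine Nat.card_congr (Equiv.subtypeEquiv (MulAut.conj (h : G)).toEquiv fun b => ?_)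
  show b ∈ QG Q ⊓ RG Q g ↔ (h : G) * b * (h : G)⁻¹ ∈ QG Q ⊓ RG Q ((h : G) * g)
  rw [Subgroup.mem_inf, Subgroup.mem_inf, ← RG_conj h.2 g b]
  refine and_congr_left fun _ => ⟨Data.conj_memQG h.2, fun hb => ?_⟩
  have := Data.conj_memQG (Subgroup.inv_mem _ h.2) hb
  rwa [show (h : G)⁻¹ * ((h : G) * b * (h : G)⁻¹) * ((h : G)⁻¹)⁻¹ = b by group] at this

/-- the centraliser of a second conjugate modulo `Q` -/
theorem quotient_structure [Finite G] {a : Q} {g : G} (hg : g * z * g⁻¹ = ((a : Subgroup.centralizer ({z} : Set G)) : G))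
    (hne : ((a : Subgroup.centralizer ({z} : Set G)) : G) ≠ z) :
    ∃ π : ↥Co0 →* (Subgroup.centralizer ({z} : Set G)) ⧸ Q, π.ker = Subgroup.center ↥Co0 ∧
      ((Subgroup.centralizer ({z} : Set G) ⊓ Subgroup.centralizer ({((a : Subgroup.centralizer ({z} : Set G)) : G)} : Set G)).subgroupOf
          (Subgroup.centralizer ({z} : Set G))).map (QuotientGroup.mk' Q) = frame.map π ∧
      ((RG Q g ⊓ Subgroup.centralizer ({z} : Set G)).subgroupOf (Subgroup.centralizer ({z} : Set G))).map (QuotientGroup.mk' Q) =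
        signs.map π := by
  obtain ⟨h, hh, -, -, himg⟩ := D.conj_class hg hne
  let π : ↥Co0 →* (Subgroup.centralizer ({z} : Set G)) ⧸ Q :=
    (MulAut.conj (QuotientGroup.mk h : Subgroup.centralizer ({z} : Set G) ⧸ Q)⁻¹).toMonoidHom.comp (e.symm.toMonoidHom.comp (QuotientGroup.mk' (Subgroup.center ↥Co0)))
  have hπ : ∀ k : ↥Co0, ∀ d : Subgroup.centralizer ({z} : Set G),
      π k = QuotientGroup.mk d ↔ (QuotientGroup.mk k : Spor.Co1) = e (QuotientGroup.mk (h * d * h⁻¹)) := fun k d => by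
    show (QuotientGroup.mk h : Subgroup.centralizer ({z} : Set G) ⧸ Q)⁻¹ * e.symm (QuotientGroup.mk k) * (QuotientGroup.mk h : Subgroup.centralizer ({z} : Set G) ⧸ Q)⁻¹⁻¹ = _ ↔ _
    rw [QuotientGroup.mk_mul, QuotientGroup.mk_mul, QuotientGroup.mk_inv]
    constructor
    · intro hk; rw [← e.apply_symm_apply (QuotientGroup.mk k)]; congr 1; rw [← hk]; group
    · intro hk; rw [hk, e.symm_apply_apply]; group
  refine ⟨π, ?_, ?_, ?_⟩
  · ext k
    rw [MonoidHom.mem_ker, ← QuotientGroup.mk_one, hπ, mul_one, mul_inv_cancel, QuotientGroup.mk_one, map_one,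
      QuotientGroup.eq_one_iff]
  · have hnc : conjQ Q h a ∉ Subgroup.center Q := (D.noncentral_iff hh).2 fun hc => by
      rcases cong_short (e8_mem none) (zero_mem _) hc (e8_norm none).le (by simp [sqNorm]) with h' | h' | h'
      · have := e8_norm none; rw [h'] at this; simp [sqNorm] at this
      · have := e8_norm none; rw [h'] at this; simp [sqNorm] at this
      · simp [sqNorm] at h'
    ext y
    constructor
    · rintro ⟨d, hd, rfl⟩
      obtain ⟨k, hk⟩ := exists_g (e := e) (h * d * h⁻¹)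
      refine ⟨k, D.fix_of_commutes hh ?_ hk, (hπ k d).2 hk⟩
      have hd' : (d : G) * ((a : Subgroup.centralizer ({z} : Set G)) : G) = ((a : Subgroup.centralizer ({z} : Set G)) : G) * (d : G) :=
        Subgroup.mem_centralizer_singleton_iff.1 hd.2
      refine Subtype.ext (Subtype.ext ?_)
      rw [coe_conjQ', coe_conjQ']
      simp only [Subgroup.coe_mul, Subgroup.coe_inv]
      calc _ = (h : G) * ((d : G) * ((a : Subgroup.centralizer ({z} : Set G)) : G) * (d : G)⁻¹) * (h : G)⁻¹ := by group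
        _ = _ := by rw [hd']; group
    · rintro ⟨k, hk, rfl⟩
      obtain ⟨d, hd, hda⟩ := D.commutes_of_fix hh hnc hk
      refine ⟨h⁻¹ * d * h, ⟨(h⁻¹ * d * h).2, Subgroup.mem_centralizer_singleton_iff.2 ?_⟩, ?_⟩
      · have e' := congrArg (fun q : Q => ((q : Subgroup.centralizer ({z} : Set G)) : G)) hda
        simp only [coe_conjQ'] at e'
        simp only [Subgroup.coe_subtype, Subgroup.coe_mul, Subgroup.coe_inv]
        calc _ = (h : G)⁻¹ * ((d : G) * ((h : G) * ((a : Subgroup.centralizer ({z} : Set G)) : G) * (h : G)⁻¹) * (d : G)⁻¹) * ((d : G) * h) := by group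
          _ = _ := by rw [e']; group
      · refine ((hπ k _).2 ?_).symm
        rw [hd]; congr 2; group
  · ext y
    constructor
    · rintro ⟨d, hd, rfl⟩
      obtain ⟨k, hk⟩ := exists_g (e := e) (h * d * h⁻¹)
      have : (QuotientGroup.mk k : Spor.Co1) ∈ imgCo e (RG Q ((h : G) * g) ⊓ Subgroup.centralizer ({z} : Set G)) :=
        ⟨h * d * h⁻¹, ⟨(RG_conj h.2 g d).1 hd.1, (h * d * h⁻¹).2⟩, hk.symm⟩
      rw [himg] at this
      obtain ⟨k', hk', he⟩ := this
      exact ⟨k', hk', (hπ k' d).2 ((show (QuotientGroup.mk k' : Spor.Co1) = _ from he).trans hk)⟩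
    · rintro ⟨k, hk, rfl⟩
      have : (QuotientGroup.mk k : Spor.Co1) ∈ imgCo e (RG Q ((h : G) * g) ⊓ Subgroup.centralizer ({z} : Set G)) := by
        rw [himg]; exact ⟨k, hk, rfl⟩
      obtain ⟨d, hd, he⟩ := this
      refine ⟨h⁻¹ * d * h, ⟨(RG_conj h.2 g _).2 ?_, (h⁻¹ * d * h).2⟩, ?_⟩
      · simp only [Subgroup.coe_subtype, Subgroup.coe_mul, Subgroup.coe_inv]
        rw [show (h : G) * ((h : G)⁻¹ * (d : G) * h) * (h : G)⁻¹ = d by group]; exact hd.1
      · refine ((hπ k _).2 ?_).symm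
        rw [← he]
        show e (QuotientGroup.mk d) = _
        congr 2; group

end Data

theorem frame_eq_signs_sup : frame = signs ⊔ permHom.range := by
  refine le_antisymm (fun g hg => ?_) (sup_le signs_le_frame ?_)
  · set σ := frameHom ⟨g, hg⟩
    have hp : permHom σ ∈ frame := permCo_mem_frame σ.2
    have : frameHom (⟨g, hg⟩ * ⟨permHom σ, hp⟩⁻¹) = 1 := by
      rw [map_mul, map_inv]
      have : frameHom ⟨permHom σ, hp⟩ = σ := frameHom_permCo σ.2
      rw [this, mul_inv_cancel]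
    obtain ⟨S, hS, e⟩ := frameHom_ker this
    simp only [Subgroup.coe_mul, Subgroup.coe_inv] at e
    have : g = signCo S hS * permHom σ := by rw [← e]; group
    rw [this]
    exact Subgroup.mul_mem_sup (signCo_mem_signs hS) ⟨σ, rfl⟩
  · rintro _ ⟨σ, rfl⟩; exact permCo_mem_frame σ.2

theorem perm_signs_trivial {σ : ↥M24} {s c : ↥Co0} (hs : s ∈ signs) (hc : c ∈ Subgroup.center ↥Co0)
    (h : permHom σ = s * c) : σ = 1 := by
  have hpm : ∀ j, ∃ ε : ℤ, ap (permHom σ) (e8 j) = ε • e8 j := fun j => by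
    obtain ⟨w, rfl⟩ := hs
    rw [h, ap_mul _ _ (e8_mem j)]
    have h1 : ∀ x ∈ leechLattice, ∀ i, ap (signHom w) x i = if i ∈ support₂ (wd w) then -x i else x i :=
      fun x hx i => ap_signCo (InC_support (Multiplicative.toAdd w)) hx i
    have h2 : ∃ δ : ℤ, ap c (e8 j) = δ • e8 j := by
      rcases center_eq.1 hc with rfl | rfl
      · exact ⟨1, by rw [ap_one, one_zsmul]⟩
      · exact ⟨-1, by rw [ap_negOne (e8_mem j), neg_one_zsmul]⟩
    obtain ⟨δ, hδ⟩ := h2
    refine ⟨if j ∈ support₂ (wd w) then -δ else δ, funext fun i => ?_⟩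
    rw [h1 _ (ap_mem _ (e8_mem j)), hδ]
    by_cases hij : i = j
    · subst hij; split <;> simp [e8]
    · simp [e8, hij]
  refine Subtype.ext (Equiv.ext fun i => ?_)
  obtain ⟨ε, hε⟩ := hpm i
  by_contra hne
  have := congrFun hε ((σ : Equiv.Perm GolayPt) i)
  rw [show ap (permHom σ) (e8 i) = e8 ((σ : Equiv.Perm GolayPt) i) from perm_e8 σ.2 i] at this
  have hne' : (σ : Equiv.Perm GolayPt) i ≠ i := hne
  simp [e8, hne'] at this

end Cfsg.Agent.Monster
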